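import Cfsg.Agent.Lib.LargeFischer.Outer.Main
import Cfsg.Agent.Lib.ThreeTransp.M23Recog.OfQuasisimple
import Cfsg.Agent.Lib.ThreeTransp.M23Invol

/-!
# The outer involution, its cover of `Fi22` and a triple for the central involution
-/

set_option autoImplicit false
set_option linter.unusedSectionVars false
set_option linter.style.haveILetI false
set_option maxHeartbeats 2000000

namespace CfsgLib.LargeFischer.Ext

open Subgroup CfsgLib.LargeFischer.Outer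
open Cfsg (GolayPt)
open CfsgLib.LargeFischer.Thompson (Ctx Ns inner val)

variable {X : Type*} [Group X] [Finite X]

/-- Outer involution, cover and triple. -/
theorem exists_core (G₀ : Subgroup X) (hidx : G₀.index = 2) (z : ↥G₀)
    (Q : Subgroup (centralizer ({z} : Set ↥G₀))) [Q.Normal] (hF : Cfsg.IsOfLargeFischerTypeAt z Q)
    (hFX : (Cfsg.generalizedFittingSubgroup ↥(centralizer ({(z : X)} : Set X))).map (Subgroup.subtype _) =
      ((Q.map (Subgroup.subtype _)).map G₀.subtype))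
    (hcov : ∀ t : ↥G₀, (∃ htc : t ∈ centralizer ({z} : Set ↥G₀), (⟨t, htc⟩ : centralizer ({z} : Set ↥G₀)) ∈ Q) →
      orderOf t = 2 → ¬ IsConj z t → Nonempty (Fi t)) :
    ∃ d : X, d * d = 1 ∧ d ∉ G₀ ∧ ∃ (t : ↥G₀) (F : Fi t), d * (t : X) = (t : X) * d ∧
      ¬ IsConj z t ∧
      (∀ k ∈ F.K, d * ((k : ↥G₀) : X) = ((k : ↥G₀) : X) * d) ∧
      (∀ w : ↥(centralizer ({t} : Set ↥G₀)), d * ((w : ↥G₀) : X) = ((w : ↥G₀) : X) * d → w ∈ F.K) ∧
      (∃ u ∈ centralizer ({t} : Set ↥G₀), d * (u : X) ≠ (u : X) * d) ∧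
      ∃ t' : ↥(G₀ ⊓ centralizer ({d} : Set X)), (t' : X) = t ∧ CfsgLib.M23.Setup (conjugatesOf t') ∧
        ∃ a b c : ↥(G₀ ⊓ centralizer ({d} : Set X)), CfsgLib.M22.Tri (conjugatesOf t') a b c ∧
          ∃ g ∈ G₀, g * ((a * b * c : ↥(G₀ ⊓ centralizer ({d} : Set X))) : X) * g⁻¹ = z := by
  classical
  obtain ⟨ι, fι, q, inst, π, n, M, φ, m⟩ := exists_model z Q hF
  obtain ⟨s, E, D, A, Ab, T₀, c, -⟩ := Thompson.exists_ctx hF m
  obtain ⟨f, ψ, L⟩ := exists_duads c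
  have H : Data G₀ z Q q π n M φ s E D A Ab f ψ := ⟨hidx, c, L, hFX⟩
  obtain ⟨t₀, ⟨ht₀A, ht₀1, ht₀z⟩, -, u, rfl⟩ := Set.nonempty_of_ncard_ne_zero
    (show (Ns z A ∩ inner Q A).ncard ≠ 0 by rw [c.Ns_counts.2.1]; norm_num)
  obtain ⟨a, b, hab, hfab⟩ := L.cover _ ⟨ht₀A, ht₀1, ht₀z⟩
  haveI := Fact.mk Nat.prime_two
  have ord2 : orderOf (f a * f b) = 2 := by
    rw [hfab]
    exact orderOf_eq_prime (by rw [pow_two]; exact c.sq ht₀A) ht₀1
  obtain ⟨F⟩ := hcov (f a * f b) (by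
      rw [hfab]
      exact ⟨(u : centralizer ({z} : Set ↥G₀)).2, u.2⟩) ord2 (by rw [hfab]; exact ht₀z)
  obtain ⟨p, hp⟩ := exists_avoid [a, b] (by simp)
  simp only [List.mem_cons, List.not_mem_nil, or_false, not_or] at hp
  obtain ⟨σ, hσ, σa, σb⟩ := CfsgLib.Golay.M24_map_two hab (show b ≠ p from Ne.symm hp.2)
  obtain ⟨m₀, rfl⟩ := L.exists_move hσ
  obtain ⟨F'⟩ : Nonempty (Fi (f b * f p)) := by
    have := F.conj (m₀ : ↥G₀)
    rwa [L.equiv, σa, σb] at this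
  obtain ⟨e, he, he'⟩ := H.exists_shared F hab (Ne.symm hp.1) (Ne.symm hp.2) F'
  have heA := Data.Outer.cent_A H F hab he
  refine ⟨e, H.outer_sq he.1 heA, he.1, f a * f b, F, heA _ (L.pair_A a b), (L.pair a b hab).2.2, he.2,
    fun w hw => ?_, H.shared_moved F hab (Ne.symm hp.1) (Ne.symm hp.2) F' he he', ?_⟩
  · obtain ⟨v, hv, hve⟩ := H.shared_moved F hab (Ne.symm hp.1) (Ne.symm hp.2) F' he he'
    by_contra hwK
    have hvK : (⟨v, hv⟩ : ↥(centralizer ({f a * f b} : Set ↥G₀))) ∉ F.K := fun h => hve (he.2 _ h)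
    have h := he.2 _ ((Subgroup.mul_mem_iff_of_index_two F.index).2 (iff_of_false hvK hwK) :
      (⟨v, hv⟩ : ↥(centralizer ({f a * f b} : Set ↥G₀))) * w ∈ F.K)
    simp only [Subgroup.coe_mul] at h
    refine hve ?_
    calc e * (v : X) = e * ((v : X) * ((w : ↥G₀) : X)) * ((w : ↥G₀) : X)⁻¹ := by group
      _ = (v : X) * (((w : ↥G₀) : X) * e) * ((w : ↥G₀) : X)⁻¹ := by rw [h]; group
      _ = (v : X) * e := by rw [← hw]; group
  set Y := G₀ ⊓ centralizer ({e} : Set X) with hYdef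
  have hmemY : ∀ g : ↥G₀, e * (g : X) = (g : X) * e → (g : X) ∈ Y := fun g h =>
    ⟨g.2, mem_centralizer_singleton_iff.2 h.symm⟩
  have htA : f a * f b ∈ A := L.pair_A a b
  set t : ↥Y := ⟨((f a * f b : ↥G₀) : X), hmemY _ (heA _ htA)⟩ with htdef
  have ht2 : orderOf t = 2 := by
    rw [← orderOf_coe t]
    show orderOf ((f a * f b : ↥G₀) : X) = 2
    rw [orderOf_coe]
    exact ord2
  refine ⟨t, rfl, ?_⟩
  -- the elements of the first centraliser commuting with `e` form the cover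
  set C := centralizer ({f a * f b} : Set ↥G₀)
  have hKe : ∀ w : ↥C, e * ((w : ↥G₀) : X) = ((w : ↥G₀) : X) * e → w ∈ F.K := by
    intro w hw
    obtain ⟨v, hv, hve⟩ := H.shared_moved F hab (Ne.symm hp.1) (Ne.symm hp.2) F' he he'
    by_contra hwK
    have hvK : (⟨v, hv⟩ : ↥C) ∉ F.K := fun h => hve (he.2 _ h)
    have h := he.2 _ ((Subgroup.mul_mem_iff_of_index_two F.index).2 (iff_of_false hvK hwK) :
      (⟨v, hv⟩ : ↥C) * w ∈ F.K)
    simp only [Subgroup.coe_mul] at h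
    refine hve ?_
    calc e * (v : X) = e * ((v : X) * ((w : ↥G₀) : X)) * ((w : ↥G₀) : X)⁻¹ := by group
      _ = (v : X) * (((w : ↥G₀) : X) * e) * ((w : ↥G₀) : X)⁻¹ := by rw [h]; group
      _ = (v : X) * e := by rw [← hw]; group
  set CY := centralizer ({t} : Set ↥Y)
  have hto : ∀ w : ↥CY, (⟨((w : ↥Y) : X), (w : ↥Y).2.1⟩ : ↥G₀) ∈ C := fun w =>
    mem_centralizer_singleton_iff.2 (Subtype.ext (congrArg (Subtype.val : ↥Y → X)
      (mem_centralizer_singleton_iff.1 w.2)))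
  let toK : ↥CY →* ↥F.K := MonoidHom.mk' (fun w => ⟨⟨_, hto w⟩,
    hKe _ (mem_centralizer_singleton_iff.1 (w : ↥Y).2.2).symm⟩) fun w v => rfl
  have hbij : Function.Bijective toK := by
    refine ⟨fun w v h => Subtype.ext (Subtype.ext
      (congrArg (fun k : ↥F.K => (((k : ↥C) : ↥G₀) : X)) h)), fun k => ?_⟩
    refine ⟨⟨⟨((k : ↥C) : ↥G₀), hmemY _ (he.2 k k.2)⟩, mem_centralizer_singleton_iff.2 (Subtype.ext ?_)⟩,
      Subtype.ext (Subtype.ext (Subtype.ext rfl))⟩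
    exact congrArg (Subtype.val : ↥G₀ → X) (mem_centralizer_singleton_iff.1 (k : ↥C).2)
  let eK := MulEquiv.ofBijective toK hbij
  have hquasi : Cfsg.IsQuasisimple ↥CY := CfsgLib.Cores.isQuasisimple_of_equiv eK.symm F.quasi
  let g₀ : ↥CY →* Cfsg.Spor.Fi22 := F.ι.comp toK
  have hsurj : Function.Surjective g₀ := F.surj.comp hbij.2
  have hker : g₀.ker = (zpowers t).subgroupOf CY := by
    ext w
    rw [MonoidHom.mem_ker, Subgroup.mem_subgroupOf]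
    refine (F.ker _).trans ?_
    simp only [mem_zpowers_iff, Subtype.ext_iff, SubgroupClass.coe_zpow]
    rfl
  haveI hn : ((zpowers t).subgroupOf CY).Normal := hker ▸ inferInstance
  obtain ⟨hE, hd'⟩ := fi22_data ((QuotientGroup.quotientMulEquivOfEq hker.symm).trans
    (QuotientGroup.quotientKerEquivOfSurjective g₀ hsurj))
  -- a conjugate of `t` in `Y` commuting with it
  have hnwc : ∃ g : ↥Y, g * t * g⁻¹ ∈ CY ∧ g * t * g⁻¹ ≠ t := by
    obtain ⟨a', ha'⟩ := exists_avoid [a, b, p] (by simp)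
    simp only [List.mem_cons, List.not_mem_nil, or_false, not_or] at ha'
    obtain ⟨g, hg, gb, gp, ga⟩ := CfsgLib.Golay.M24_map_three (Ne.symm hp.2) (Ne.symm hab) hp.1 (Ne.symm hp.2)
      (Ne.symm ha'.2.1) (Ne.symm ha'.2.2)
    obtain ⟨r, rfl⟩ := L.exists_move hg
    obtain ⟨_, hrK⟩ := H.stab_inK F' (Ne.symm hp.2) gb gp
    refine ⟨⟨_, hmemY (r : ↥G₀) (he'.2 _ hrK)⟩, mem_centralizer_singleton_iff.2 (Subtype.ext ?_), fun h => ?_⟩
    · show ((r : ↥G₀) : X) * ((f a * f b : ↥G₀) : X) * ((r : ↥G₀) : X)⁻¹ * ((f a * f b : ↥G₀) : X) =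
        ((f a * f b : ↥G₀) : X) * (((r : ↥G₀) : X) * ((f a * f b : ↥G₀) : X) * ((r : ↥G₀) : X)⁻¹)
      exact congrArg (Subtype.val : ↥G₀ → X) (c.comm (c.conj_mem r.2 htA) htA)
    · have h' : (r : ↥G₀) * (f a * f b) * (r : ↥G₀)⁻¹ = f a * f b :=
        Subtype.ext (congrArg (Subtype.val : ↥Y → X) h)
      rw [L.equiv, ga, gb] at h'
      rcases L.inj _ _ _ _ hab ha'.2.1 h'.symm with ⟨k, -⟩ | ⟨k, -⟩
      · exact ha'.1 k
      · exact ha'.2.1 k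
  obtain ⟨E', hE', hEt⟩ := hE
  obtain ⟨d', hd', ⟨hperf', -⟩, -, -⟩ := hd'
  have S₂ := CfsgLib.M22.Setup.of_class_perfect hE' hEt hd' hperf'
  obtain ⟨R⟩ := CfsgLib.M23Recog.rec_of_quasisimple t ht2 hquasi S₂ (MulEquiv.refl _) hnwc
  have ST := R.setup
  refine ⟨ST, ?_⟩
  -- the duads through the second point are members
  have r1 : ∀ (m : ↥(Subgroup.normalizer (A : Set ↥G₀))), ψ m a = a → ψ m b = b → e * ((m : ↥G₀) : X) = ((m : ↥G₀) : X) * e := fun m ha hb => by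
    obtain ⟨_, k⟩ := H.stab_inK F hab ha hb
    exact he.2 _ k
  have r2 : ∀ (m : ↥(Subgroup.normalizer (A : Set ↥G₀))), ψ m b = b → ψ m p = p → e * ((m : ↥G₀) : X) = ((m : ↥G₀) : X) * e := fun m hb hp' => by
    obtain ⟨_, k⟩ := H.stab_inK F' (Ne.symm hp.2) hb hp'
    exact he'.2 _ k
  have mv : ∀ q' : GolayPt, q' ≠ b → q' ≠ p →
      ∃ (m : ↥(Subgroup.normalizer (A : Set ↥G₀))), e * ((m : ↥G₀) : X) = ((m : ↥G₀) : X) * e ∧ ψ m b = b ∧ ψ m a = q' := fun q' hb' hc' => by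
    obtain ⟨g, hg, gb, gp, ga⟩ := CfsgLib.Golay.M24_map_three (Ne.symm hp.2) (Ne.symm hab) hp.1 (Ne.symm hp.2)
      (Ne.symm hb') (Ne.symm hc')
    obtain ⟨m, rfl⟩ := L.exists_move hg
    exact ⟨m, r2 m gb gp, gb, ga⟩
  have move : ∀ q' : GolayPt, q' ≠ b →
      ∃ (m : ↥(Subgroup.normalizer (A : Set ↥G₀))), e * ((m : ↥G₀) : X) = ((m : ↥G₀) : X) * e ∧ ψ m b = b ∧ ψ m a = q' := fun q' hb' => by
    by_cases hc' : q' = p
    · subst hc'
      obtain ⟨o, ho⟩ := exists_avoid [a, b, q'] (by simp)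
      simp only [List.mem_cons, List.not_mem_nil, or_false, not_or] at ho
      obtain ⟨m₁, hm₁, hb1, ha1⟩ := mv o ho.2.1 ho.2.2
      obtain ⟨g, hg, gd, gb, ga⟩ := CfsgLib.Golay.M24_map_three ho.2.1 ho.1 (Ne.symm hab) ho.2.1 ho.2.2
        (Ne.symm hp.2)
      obtain ⟨w, rfl⟩ := L.exists_move hg
      have hw := r1 (m₁⁻¹ * w * m₁)
        (by simp only [map_mul, map_inv, Equiv.Perm.mul_apply]; rw [ha1, gd, Equiv.Perm.inv_eq_iff_eq, ha1])
        (by simp only [map_mul, map_inv, Equiv.Perm.mul_apply]; rw [hb1, gb, Equiv.Perm.inv_eq_iff_eq, hb1])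
      refine ⟨w, ?_, gb, ga⟩
      have hC : ∀ m : ↥(Subgroup.normalizer (A : Set ↥G₀)), e * ((m : ↥G₀) : X) = ((m : ↥G₀) : X) * e →
          (((m : ↥G₀) : X)) ∈ centralizer ({e} : Set X) := fun m h => mem_centralizer_singleton_iff.2 h.symm
      have := mul_mem (mul_mem (hC _ hm₁) (hC _ hw)) (inv_mem (hC _ hm₁))
      simp only [Subgroup.coe_mul, Subgroup.coe_inv, mul_assoc, mul_inv_cancel, mul_one,
        mul_inv_cancel_left] at this
      exact (mem_centralizer_singleton_iff.1 this).symm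
    · exact mv q' hb' hc'
  have mem : ∀ q' : GolayPt, q' ≠ b → ∃ w : ↥Y, w ∈ conjugatesOf t ∧
      (w : X) = ((f q' * f b : ↥G₀) : X) := fun q' hb' => by
    obtain ⟨m, hm, mb, ma⟩ := move q' hb'
    refine ⟨⟨_, hmemY (m : ↥G₀) hm⟩ * t * ⟨_, hmemY (m : ↥G₀) hm⟩⁻¹, isConj_iff.2 ⟨_, rfl⟩, ?_⟩
    have h := congrArg (Subtype.val : ↥G₀ → X) (L.equiv m a b)
    rw [ma, mb] at h
    exact h
  obtain ⟨p₁, hp₁⟩ := exists_avoid [b, p] (by simp)
  obtain ⟨p₂, hp₂⟩ := exists_avoid [b, p, p₁] (by simp)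
  obtain ⟨p₃, hp₃⟩ := exists_avoid [b, p, p₁, p₂] (by simp)
  simp only [List.mem_cons, List.not_mem_nil, or_false, not_or] at hp₁ hp₂ hp₃
  obtain ⟨x₁, h₁, e₁⟩ := mem p₁ hp₁.1
  obtain ⟨x₂, h₂, e₂⟩ := mem p₂ hp₂.1
  obtain ⟨x₃, h₃, e₃⟩ := mem p₃ hp₃.1
  have hcomm : ∀ (x y : ↥Y) (u v : ↥G₀), u ∈ A → v ∈ A → (x : X) = u → (y : X) = v → Commute x y :=
    fun x y u v hu hv ex ey => Subtype.ext (by
      show (x : X) * (y : X) = (y : X) * (x : X)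
      rw [ex, ey]
      exact congrArg (Subtype.val : ↥G₀ → X) (c.comm hu hv))
  have hne : ∀ (q' r' : GolayPt) (x y : ↥Y), q' ≠ b → r' ≠ b → r' ≠ q' → (x : X) = ((f q' * f b : ↥G₀) : X) →
      (y : X) = ((f r' * f b : ↥G₀) : X) → x ≠ y := fun q' r' x y hq hrb hr ex ey h => by
    subst h
    rcases L.inj q' b r' b hq hrb (Subtype.ext (ex.symm.trans ey)) with ⟨k, -⟩ | ⟨k, -⟩
    · exact hr k
    · exact hrb k
  have T : CfsgLib.M22.Tri (conjugatesOf t) x₁ x₂ x₃ :=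
    ⟨h₁, h₂, h₃, hne _ _ _ _ hp₁.1 hp₂.1 hp₂.2.2 e₁ e₂, hne _ _ _ _ hp₁.1 hp₃.1 hp₃.2.2.1 e₁ e₃, hne _ _ _ _ hp₂.1 hp₃.1 hp₃.2.2.2 e₂ e₃,
      hcomm _ _ _ _ (L.pair_A _ _) (L.pair_A _ _) e₁ e₂, hcomm _ _ _ _ (L.pair_A _ _) (L.pair_A _ _) e₁ e₃,
      hcomm _ _ _ _ (L.pair_A _ _) (L.pair_A _ _) e₂ e₃⟩
  refine ⟨x₁, x₂, x₃, T, ?_⟩
  set w := f p₁ * f b * (f p₂ * f b) * (f p₃ * f b) with hw
  have ew : ((x₁ * x₂ * x₃ : ↥Y) : X) = (w : X) := by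
    simp only [hw, Subgroup.coe_mul, e₁, e₂, e₃]
  have hwA : w ∈ A := mul_mem (mul_mem (L.pair_A _ _) (L.pair_A _ _)) (L.pair_A _ _)
  have hz : IsConj z w := by
    by_contra hz
    obtain ⟨u', v', huv, e'⟩ := L.cover w ⟨hwA, fun h => (CfsgLib.M23.tri_notMem ST T).1
      (Subtype.ext (by rw [ew, h]; rfl)), hz⟩
    have one : ∀ v', v' ≠ b → f v' * f b ≠ w := fun v' hv e' => by
      obtain ⟨y, hy, ey⟩ := mem v' hv
      exact (CfsgLib.M23.tri_notMem ST T).2 ((Subtype.ext (by rw [ew, ← e', ey]) : x₁ * x₂ * x₃ = y) ▸ hy)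
    by_cases hub : u' = b
    · exact one v' (fun h => huv (hub.trans h.symm)) (by rw [L.swap_mul, ← e', hub])
    by_cases hvb : v' = b
    · exact one u' hub (by rw [← e', hvb])
    obtain ⟨y, hy, ey⟩ := mem u' hub
    obtain ⟨y', hy', ey'⟩ := mem v' hvb
    refine CfsgLib.M23.pair_ne_tri ST hy (b := y') ⟨hy', (hne u' v' y y' hub hvb (Ne.symm huv) ey ey').symm,
      hcomm _ _ _ _ (L.pair_A _ _) (L.pair_A _ _) ey ey'⟩ T (Subtype.ext ?_)
    rw [ew, Subgroup.coe_mul, ey, ey', ← Subgroup.coe_mul, ← e', L.swap_mul v' b, L.tri]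
  obtain ⟨g, hg⟩ := isConj_iff.1 hz.symm
  exact ⟨(g : X), g.2, by rw [ew, ← hg]; rfl⟩

end CfsgLib.LargeFischer.Ext
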