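import Cfsg.Agent.Lib.Fi24P.ThreeT.Types
import Cfsg.Agent.Lib.Fi24P.Simple

/-!
# An outer involution whose centraliser is modelled inside the presented group `Fi24`
-/

set_option autoImplicit false
set_option maxRecDepth 100000

namespace CfsgLib.LargeFischer.Ext

open CfsgLib.PresCert CfsgLib.Fi24P CfsgLib.Fi24P.ThreeT
open CfsgLib.ThreeTransp (link)

variable {X : Type*} [Group X]

/-- A generator other than the second, inside the centraliser of the first. -/
noncomputable def genH (g : ℕ) : ↥Fi24P.subgH :=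
  open scoped _root_.Classical in if h : ftGen g ∈ Fi24P.subgH then ⟨ftGen g, h⟩ else 1

theorem genH_coe {g : ℕ} (hg : g < 12) (h1 : g ≠ 1) : (genH g : Cfsg.Spor.Fi24) = ftGen g := by
  have h : ftGen g ∈ Fi24P.subgH := mem_subgH_iff.2 (gen_fix_base0 hg h1)
  rw [genH, dif_pos h]

/-- The model of the centraliser of an outer involution `d`: the twelfth generator `d t` is the only other
conjugate of `d` under the centraliser of `t` in the subgroup of index two, and `z` is a product of four
commuting transpositions containing the first. -/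
structure Model (G₀ : Subgroup X) (z : ↥G₀) where
  idx : G₀.index = 2
  d : X
  φ : ↥Fi24P.subgH →* X
  inj : Function.Injective φ
  range_eq : φ.range = Subgroup.centralizer ({d} : Set X)
  map_l : φ ⟨eltL, eltL_mem⟩ = d
  parity : ∀ m : ↥Fi24P.subgH, φ m ∈ G₀ ↔ signHom (m : Cfsg.Spor.Fi24) = 1
  swap : ∀ g ∈ G₀, g * (d * φ (genH 11)) = d * φ (genH 11) * g →
    g * d * g⁻¹ = d ∨ g * d * g⁻¹ = φ (genH 11)
  quad : ∃ (a b c : Cfsg.Spor.Fi24) (h : a * b * c * eltL ∈ Fi24P.subgH),
    a ∈ link transp24 eltL ∧ b ∈ link transp24 eltL ∧ c ∈ link transp24 eltL ∧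
    a ≠ b ∧ a ≠ c ∧ b ≠ c ∧ Commute a b ∧ Commute a c ∧ Commute b c ∧
    ∃ g ∈ G₀, g * φ ⟨a * b * c * eltL, h⟩ * g⁻¹ = (z : X)

/-- The images of all generators, given one for the second. -/
noncomputable def Model.gens {G₀ : Subgroup X} {z : ↥G₀} (L : Model G₀ z) (V : X) (g : ℕ) : X :=
  if g = 1 then V else L.φ (genH g)

/-- What the image of the second generator has to satisfy. -/
structure Model.Node {G₀ : Subgroup X} {z : ↥G₀} (L : Model G₀ z) (V : X) : Prop where
  sq : V * V = 1
  comm : ∀ g, 2 < g → g < 12 → L.φ (genH g) * V = V * L.φ (genH g)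
  braid_zero : L.d * V * L.d = V * L.d * V
  braid_two : L.φ (genH 2) * V * L.φ (genH 2) = V * L.φ (genH 2) * V
  tri : act (L.gens V) wordTri * V = V * act (L.gens V) wordTri

end CfsgLib.LargeFischer.Ext
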