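import Cfsg.Agent.Lib.LargeFischer.Ext.Tri
import Cfsg.Agent.S5450

/-!
# The model with the image of the second generator, for a group with a subgroup of large Fischer type
-/

set_option autoImplicit false
set_option maxRecDepth 100000
set_option linter.style.haveILetI false

namespace CfsgLib.LargeFischer.Ext

/-- The covers at the involutions of `Q` outside the class of `z`. -/
theorem hcov_of {G : Type*} [Group G] [Finite G] (z : G) (Q : Subgroup (Subgroup.centralizer ({z} : Set G)))
    [Q.Normal] (hF : Cfsg.IsOfLargeFischerTypeAt z Q) (t : G)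
    (htQ : ∃ htc : t ∈ Subgroup.centralizer ({z} : Set G), (⟨t, htc⟩ : Subgroup.centralizer ({z} : Set G)) ∈ Q)
    (ht2 : orderOf t = 2) (ht : ¬ IsConj z t) : Nonempty (CfsgLib.LargeFischer.Outer.Fi t) := by
  haveI hn : ((Subgroup.zpowers t).subgroupOf (Subgroup.centralizer ({t} : Set G))).Normal := by
    refine ⟨fun w hw g => ?_⟩
    have hc : g * w = w * g := by
      obtain ⟨j, hj⟩ := Subgroup.mem_zpowers_iff.1 (Subgroup.mem_subgroupOf.1 hw)
      refine Subtype.ext ?_
      show (g : G) * (w : G) = (w : G) * (g : G)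
      rw [← hj]
      exact (Commute.zpow_right (Subgroup.mem_centralizer_singleton_iff.1 g.2) j).eq
    rwa [hc, mul_inv_cancel_right]
  obtain ⟨hq, hi, htm, ⟨e⟩⟩ := Cfsg.Agent.S5450.result z Q hF t htQ ht2 ht _ rfl
  exact CfsgLib.LargeFischer.Outer.exists_fi t _ hq hi htm e

end CfsgLib.LargeFischer.Ext
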