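import Cfsg.Agent.Lib.LargeFischer.Ext.Defs
import Cfsg.Agent.Lib.Fi24P.Orth

/-!
# The orthogonal subgroup and its three cosets in the common centraliser
-/

set_option autoImplicit false
set_option maxRecDepth 100000
set_option linter.style.haveILetI false

namespace CfsgLib.LargeFischer.Ext

open CfsgLib.PresCert CfsgLib.Fi24P CfsgLib.Fi24P.ThreeT Subgroup

attribute [local irreducible] relShort Fi23P.relShort Fi23P.levels Fi23P.wordA Fi23P.baseL

theorem subOne_le : Nat.card subOne ≤ 3 * Nat.card subK := by
  haveI := Fi23P.card_fi.1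
  classical
  let F : (Cfsg.Spor.Fi23 ⧸ subOne) × Bool → Cos := fun p =>
    if p.2 then psi p.1.out • eltL • Fi24P.root 1 else psi p.1.out • Fi24P.root 1
  have hsub : orbOf 1 ⊆ Set.range F := by
    intro x hx
    obtain ⟨u, rfl⟩ := orbOf_one_psi hx
    obtain ⟨w, hw⟩ := QuotientGroup.mk_out_eq_mul subOne u
    have hu : u = ((u : Cfsg.Spor.Fi23 ⧸ subOne).out) * (w : Cfsg.Spor.Fi23)⁻¹ := by
      rw [hw, mul_inv_cancel_right]
    rcases (inv_mem w.2 : (w : Cfsg.Spor.Fi23)⁻¹ ∈ subOne) with h | h
    · refine ⟨((u : Cfsg.Spor.Fi23 ⧸ subOne), false), ?_⟩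
      show psi _ • Fi24P.root 1 = psi u • Fi24P.root 1
      conv_rhs => rw [hu, map_mul, mul_smul, h]
    · refine ⟨((u : Cfsg.Spor.Fi23 ⧸ subOne), true), ?_⟩
      show psi _ • eltL • Fi24P.root 1 = psi u • Fi24P.root 1
      conv_rhs => rw [hu, map_mul, mul_smul, h]
  have h1 := Set.ncard_le_ncard hsub (Set.finite_range F)
  rw [orbit_counts.1] at h1
  have h2 : (Set.range F).ncard ≤ Nat.card ((Cfsg.Spor.Fi23 ⧸ subOne) × Bool) := by
    rw [← Set.image_univ]
    exact (Set.ncard_image_le Set.finite_univ).trans (by rw [Set.ncard_univ])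
  rw [Nat.card_prod, ← Subgroup.index_eq_card, Nat.card_eq_fintype_card (α := Bool), Fintype.card_bool] at h2
  have h := subOne.card_mul_index
  rw [Fi23P.card_fi.2] at h
  have h3 := subK_card
  by_contra hlt
  have h4 : (29713078886400 + 1) * 137632 ≤ Nat.card subOne * subOne.index :=
    Nat.mul_le_mul (by omega) (by omega)
  omega

/-- The three cosets. -/
abbrev Three : Type := ↥subOne ⧸ subK.subgroupOf subOne

theorem three_card : Nat.card Three = 3 := by
  haveI := Fi23P.card_fi.1
  have h := (subK.subgroupOf subOne).card_mul_index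
  rw [Subgroup.index_eq_card, Nat.card_congr (Subgroup.subgroupOfEquivOfLe subK_le).toEquiv] at h
  have h1 := subOne_card
  have h2 := subOne_le
  have h3 : 0 < Nat.card subK := Nat.card_pos
  exact Nat.eq_of_mul_eq_mul_left h3 (by rw [h]; omega)

/-- The action on the three cosets. -/
noncomputable def sig : ↥subOne →* Equiv.Perm Three := MulAction.toPermHom ↥subOne Three

/-- The base coset. -/
noncomputable def p0 : Three := ((1 : ↥subOne) : Three)

theorem sig_base {u : ↥subOne} : sig u p0 = p0 ↔ (u : Cfsg.Spor.Fi23) ∈ subK := by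
  show u • ((1 : ↥subOne) : Three) = ((1 : ↥subOne) : Three) ↔ _
  rw [MulAction.Quotient.smul_coe, smul_eq_mul, mul_one, QuotientGroup.eq, mul_one, inv_mem_iff,
    Subgroup.mem_subgroupOf]

/-- A node of the orthogonal subgroup. -/
noncomputable def nod (k : ℕ) : ↥subOne := ⟨Fi23P.fiGen (orthoMap (k % 10)), subK_le (gen_subK _ (Nat.mod_lt _ (by norm_num)))⟩

theorem nod_coe {k : ℕ} (h0 : 1 ≤ k) (hk : k < 10) : (nod k : Cfsg.Spor.Fi23) = Fi23P.fiGen k := by
  show Fi23P.fiGen (orthoMap (k % 10)) = _
  rw [Nat.mod_eq_of_lt hk, orthoMap]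
  split_ifs with h
  · exact absurd (Nat.beq_eq.mp h) (by omega)
  · rfl

/-- The element of the trace, in the smaller group. -/
noncomputable def triS : ↥subOne := ⟨act Fi23P.fiGen triFi, subOne_of_word tri_moves.2.2.2.2.2 tri_fix⟩

theorem triS_out : sig triS p0 ≠ p0 ∧ sig (nod 2) (sig triS p0) ≠ sig triS p0 ∧ sig (nod 2) p0 = p0 := by
  have hlt : ∀ g ∈ triFi, g < 10 := fun g hg =>
    Nat.blt_eq.mp (List.all_eq_true.1 tri_moves.2.2.2.2.1 g hg)
  have hc : sig (nod 2) p0 = p0 := sig_base.2 (gen_subK _ (Nat.mod_lt _ (by norm_num)))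
  refine ⟨fun h => not_subK hlt tri_moves.2.2.1 (sig_base.1 h), fun h => ?_, hc⟩
  have h' : sig (triS⁻¹ * nod 2 * triS) p0 = p0 := by
    rw [map_mul, map_mul, Equiv.Perm.mul_apply, Equiv.Perm.mul_apply, h, map_inv, Equiv.Perm.inv_def,
      Equiv.symm_apply_apply]
  refine not_subK (fun g hg => ?_) tri_moves.2.2.2.1 ?_
  · simp only [List.mem_append, List.mem_cons, List.not_mem_nil, or_false, List.mem_reverse] at hg
    rcases hg with (hg | rfl) | hg
    exacts [hlt g hg, by norm_num, hlt g hg]
  · rw [act_append, act_append, act_cons, act_nil, one_mul,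
      act_reverse (ng := 10) Fi23P.fiGen_sq hlt]
    have := sig_base.1 h'
    simp only [Subgroup.coe_mul, Subgroup.coe_inv, nod_coe (show 1 ≤ 2 by norm_num) (show 2 < 10 by norm_num)] at this
    rwa [← mul_assoc]

/-- A permutation fixing the base is trivial or the exchange of the other two. -/
theorem fix_cases {u : Equiv.Perm Three} (h : u p0 = p0) : u = 1 ∨ u = sig (nod 2) := by
  haveI := Fi23P.card_fi.1
  classical
  haveI : Fintype Three := Fintype.ofFinite _
  obtain ⟨h1, h2, h0⟩ := triS_out
  set a := sig triS p0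
  set b := sig (nod 2) a with hb
  have hb0 : b ≠ p0 := fun e => h1 ((sig (nod 2)).injective (e.trans h0.symm))
  have huniv : ∀ x : Three, x = p0 ∨ x = a ∨ x = b := fun x => by
    have hs : ({p0, a, b} : Finset Three).card = 3 := by
      rw [Finset.card_insert_of_notMem (by simp [Ne.symm h1, Ne.symm hb0]),
        Finset.card_insert_of_notMem (by simp [Ne.symm h2]), Finset.card_singleton]
    have : ({p0, a, b} : Finset Three) = Finset.univ := Finset.eq_univ_of_card _ (by
      rw [hs, ← Nat.card_eq_fintype_card, three_card])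
    simpa [← this] using Finset.mem_univ x
  have hsb : sig (nod 2) b = a := by
    rcases huniv (sig (nod 2) b) with e | e | e
    · exact absurd ((sig (nod 2)).injective (e.trans h0.symm)) hb0
    · exact e
    · exact absurd ((sig (nod 2)).injective (e.trans hb)) h2
  rcases huniv (u a) with e | e | e
  · exact absurd (u.injective (e.trans h.symm)) h1
  · refine .inl (Equiv.ext fun x => ?_)
    rcases huniv x with rfl | rfl | rfl
    · exact h
    · exact e
    · rcases huniv (u b) with e' | e' | e'
      · exact absurd (u.injective (e'.trans h.symm)) hb0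
      · exact absurd (u.injective (e'.trans e.symm)) h2
      · exact e'
  · refine .inr (Equiv.ext fun x => ?_)
    rcases huniv x with rfl | rfl | rfl
    · rw [h, h0]
    · exact e
    · rw [hsb]
      rcases huniv (u b) with e' | e' | e'
      · exact absurd (u.injective (e'.trans h.symm)) hb0
      · exact e'
      · exact absurd (u.injective (e'.trans e.symm)) h2

theorem piL_node {g : ℕ} (h3 : 2 ≤ g) (hg : g < 12) : piL (genH g) = Fi23P.fiGen (g - 2) :=
  piL_eq (.inr (by
    rw [genH_coe hg (by omega), psi_gen (by omega), smallGen, show g - 2 + 2 = g by omega, mul_assoc, eltL_sq,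
      mul_one]))

theorem sig_braid {j k : ℕ} (hj : 1 ≤ j) (hj' : j < 10) (hk : 1 ≤ k) (hk' : k < 10)
    (hb : (j + 2, k + 2) ∈ braidList ∨ (k + 2, j + 2) ∈ braidList) (h : sig (nod j) = sig (nod 2)) :
    sig (nod k) = sig (nod 2) := by
  have key : ∀ {p q : ℕ}, 1 ≤ p → p < 10 → 1 ≤ q → q < 10 → (p + 2, q + 2) ∈ braidList →
      nod p * nod q * nod p = nod q * nod p * nod q := by
    intro p q hp hp' hq hq' hm
    have e := gen_braid hm
    have e' : genH (p + 2) * genH (q + 2) * genH (p + 2) = genH (q + 2) * genH (p + 2) * genH (q + 2) :=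
      Subtype.ext (by
        simp only [Subgroup.coe_mul, genH_coe (show p + 2 < 12 by omega) (by omega),
          genH_coe (show q + 2 < 12 by omega) (by omega)]
        exact e)
    have e'' := congrArg piL e'
    rw [map_mul, map_mul, map_mul, map_mul, piL_node (by omega) (by omega), piL_node (by omega) (by omega),
      Nat.add_sub_cancel, Nat.add_sub_cancel, ← nod_coe hp hp', ← nod_coe hq hq'] at e''
    exact Subtype.ext e''
  have hkk : sig (nod k) p0 = p0 := sig_base.2 (gen_subK _ (Nat.mod_lt _ (by norm_num)))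
  rcases fix_cases hkk with e | e
  · exfalso
    have hbr : sig (nod j) * sig (nod k) * sig (nod j) = sig (nod k) * sig (nod j) * sig (nod k) := by
      rw [← map_mul, ← map_mul, ← map_mul, ← map_mul]
      rcases hb with hb | hb
      · rw [key hj hj' hk hk' hb]
      · rw [key hk hk' hj hj' hb]
    rw [e, h, mul_one, one_mul, mul_one] at hbr
    have h1 := congrArg (fun p : Equiv.Perm Three => p (sig triS p0)) (mul_eq_left.1 hbr)
    exact triS_out.2.1 h1
  · exact e

theorem sig_node {k : ℕ} (h0 : 1 ≤ k) (hk : k < 10) : sig (nod k) = sig (nod 2) := by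
  have h2 : sig (nod 2) = sig (nod 2) := rfl
  have h1 := sig_braid (j := 2) (k := 1) (by norm_num) (by norm_num) (by norm_num) (by norm_num) (by decide) h2
  have h3 := sig_braid (j := 2) (k := 3) (by norm_num) (by norm_num) (by norm_num) (by norm_num) (by decide) h2
  have h4 := sig_braid (j := 3) (k := 4) (by norm_num) (by norm_num) (by norm_num) (by norm_num) (by decide) h3
  have h5 := sig_braid (j := 4) (k := 5) (by norm_num) (by norm_num) (by norm_num) (by norm_num) (by decide) h4
  have h6 := sig_braid (j := 5) (k := 6) (by norm_num) (by norm_num) (by norm_num) (by norm_num) (by decide) h5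
  have h7 := sig_braid (j := 6) (k := 7) (by norm_num) (by norm_num) (by norm_num) (by norm_num) (by decide) h6
  have h8 := sig_braid (j := 3) (k := 8) (by norm_num) (by norm_num) (by norm_num) (by norm_num) (by decide) h3
  have h9 := sig_braid (j := 8) (k := 9) (by norm_num) (by norm_num) (by norm_num) (by norm_num) (by decide) h8
  interval_cases k <;> assumption

/-- A product of two nodes is carried by any element into the orthogonal subgroup. -/
theorem two_nodes {j k : ℕ} (hj : 1 ≤ j) (hj' : j < 10) (hk : 1 ≤ k) (hk' : k < 10) (u : ↥subOne) :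
    ((u⁻¹ * (nod j * nod k) * u : ↥subOne) : Cfsg.Spor.Fi23) ∈ subK := by
  refine sig_base.1 ?_
  have hsq : nod 2 * nod 2 = 1 := Subtype.ext (by
    rw [Subgroup.coe_mul, nod_coe (by norm_num) (by norm_num), Fi23P.fiGen_sq 2 (by norm_num)]; rfl)
  rw [map_mul, map_mul, map_mul, sig_node hj hj', sig_node hk hk', ← map_mul sig (nod 2), hsq, map_one, mul_one,
    map_inv, inv_mul_cancel, Equiv.Perm.one_apply]

/-- An element commuting with the last node is in the orthogonal subgroup. -/
theorem commute_nine {u : ↥subOne} (h : Commute u (nod 9)) : (u : Cfsg.Spor.Fi23) ∈ subK := by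
  refine sig_base.1 ?_
  have h' : Commute (sig u) (sig (nod 2)) := sig_node (k := 9) (by norm_num) (by norm_num) ▸ h.map sig
  obtain ⟨h1, h2, h0⟩ := triS_out
  have e : sig (nod 2) (sig u p0) = sig u p0 := by
    have := congrArg (fun p : Equiv.Perm Three => p p0) h'.eq
    simp only [Equiv.Perm.mul_apply, h0] at this
    exact this.symm
  by_contra hne
  haveI := Fi23P.card_fi.1
  classical
  haveI : Fintype Three := Fintype.ofFinite _
  set a := sig triS p0
  have hb0 : sig (nod 2) a ≠ p0 := fun e' => h1 ((sig (nod 2)).injective (e'.trans h0.symm))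
  have hs : ({p0, a, sig (nod 2) a} : Finset Three) = Finset.univ := Finset.eq_univ_of_card _ (by
    rw [Finset.card_insert_of_notMem (by simp [Ne.symm h1, Ne.symm hb0]),
      Finset.card_insert_of_notMem (by simp [Ne.symm h2]), Finset.card_singleton, ← Nat.card_eq_fintype_card,
      three_card])
  have hm := Finset.mem_univ (sig u p0)
  rw [← hs] at hm
  simp only [Finset.mem_insert, Finset.mem_singleton] at hm
  rcases hm with k | k | k
  · exact hne k
  · rw [k] at e; exact h2 e
  · rw [k] at e; exact h2 ((sig (nod 2)).injective e)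

theorem piL_subOne {m : ↥Fi24P.subgH} (h : Commute (m : Cfsg.Spor.Fi24) (ftGen 1)) : piL m ∈ subOne := by
  have hr : Fi24P.root 1 = ftGen 1 • base0 := by rw [Fi24P.root, rootWord, act_cons, act_nil, one_mul]
  have hm : (m : Cfsg.Spor.Fi24) • Fi24P.root 1 = Fi24P.root 1 := by
    rw [hr, ← mul_smul, h.eq, mul_smul, mem_subgH_iff.1 m.2]
  rcases piL_cases m with e | e <;> rw [e] at hm
  · exact .inl hm
  · refine .inr ?_
    rw [← psi_comm, mul_smul] at hm
    calc psi (piL m) • Fi24P.root 1 = eltL • eltL • psi (piL m) • Fi24P.root 1 := (eltL_twice _).symm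
      _ = eltL • Fi24P.root 1 := by rw [hm]

/-- The nodes in the centraliser of the first generator. -/
def nodes : Set ↥Fi24P.subgH := genH '' {g | 2 < g ∧ g < 12}

theorem node_comm {g : ℕ} (h2 : 2 < g) (hg : g < 12) : Commute (genH g : Cfsg.Spor.Fi24) (ftGen 1) := by
  rw [genH_coe hg (by omega)]
  exact (gen_comm (g := 1) (h := g) (by interval_cases g <;> decide)).symm

theorem nodes_comm {m : ↥Fi24P.subgH} (hm : m ∈ closure nodes) : Commute (m : Cfsg.Spor.Fi24) (ftGen 1) := by
  induction hm using Subgroup.closure_induction with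
  | mem x hx =>
    obtain ⟨g, ⟨h1, h2⟩, rfl⟩ := hx
    exact node_comm h1 h2
  | one => exact Commute.one_left _
  | mul a b _ _ ha hb => exact ha.mul_left hb
  | inv a _ ha => exact ha.inv_left

/-- The elements over the orthogonal subgroup commuting with the second generator are products of nodes. -/
theorem mem_nodes {m : ↥Fi24P.subgH} (h : Commute (m : Cfsg.Spor.Fi24) (ftGen 1)) (hm : piL m ∈ subK) :
    m ∈ closure nodes := by
  have hle : subK ≤ (closure nodes).map piL := by
    refine (Subgroup.closure_le _).2 ?_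
    rintro _ ⟨w, hw, rfl⟩
    obtain ⟨k, hk, rfl⟩ := List.mem_map.1 hw
    rw [List.mem_range] at hk
    have hk1 : 1 ≤ orthoMap k := by
      rcases Nat.eq_zero_or_pos k with rfl | h
      · decide
      · rw [orthoMap]; split_ifs <;> omega
    have hk2 := orthoMap_lt hk
    refine ⟨genH (orthoMap k + 2), subset_closure ⟨_, ⟨by omega, by omega⟩, rfl⟩, ?_⟩
    rw [piL_node (by omega) (by omega), Nat.add_sub_cancel, act_cons, act_nil, one_mul]
  obtain ⟨n, hn, e⟩ := hle hm
  have he : piL (n⁻¹ * m) = 1 := by rw [map_mul, map_inv, e, inv_mul_cancel]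
  rcases piL_eq_one.1 he with h' | h'
  · rwa [← inv_mul_eq_one.1 (Subtype.ext h' : n⁻¹ * m = 1)]
  · refine absurd ?_ k_not_commute
    rw [← h']
    exact ((nodes_comm hn).inv_left).mul_left h

/-- The element of the trace. -/
noncomputable def tri24 : ↥Fi24P.subgH := ⟨act ftGen wordTri, hLetters_mem tri_moves.2.2.2.2.2⟩

theorem tri24_piL : piL tri24 = act Fi23P.fiGen triFi := by
  refine piL_eq ?_
  have h := act_eq_psi (hLetters_spec tri_moves.2.2.2.2.2)
  rw [pow_eltL] at h
  rcases Nat.mod_two_eq_zero_or_one wordTri.length with e | e <;> rw [e] at h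
  · rw [pow_zero, mul_one] at h; exact .inl h
  · rw [pow_one] at h; exact .inr h

theorem tri24_comm : Commute (tri24 : Cfsg.Spor.Fi24) (ftGen 1) := by
  set m := (tri24 : Cfsg.Spor.Fi24)
  have hml : Commute eltL m := subgH_commute tri24.2
  have h : m • ftGen 1 • base0 = ftGen 1 • base0 := by
    have := tri_fix
    rwa [Fi24P.root, rootWord, act_cons, act_nil, one_mul] at this
  rw [← mul_smul] at h
  have h' := conj_eq_iff.2 h
  have hb : eltL * ftGen 1 * eltL = ftGen 1 * eltL * ftGen 1 := gen_braid (g := 0) (h := 1) (by decide)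
  have hk := inv_eq_of_mul_eq_one_right (show ftGen 1 * ftGen 1 = 1 from ftGen_sq 1 (by norm_num))
  have h2 : m * (eltL * ftGen 1 * eltL) * m⁻¹ = eltL * ftGen 1 * eltL := by
    rw [hb]
    calc m * (ftGen 1 * eltL * ftGen 1) * m⁻¹ = m * ftGen 1 * eltL * (m * ftGen 1)⁻¹ := by
          rw [mul_inv_rev, hk]; simp only [mul_assoc]
      _ = ftGen 1 * eltL * (ftGen 1)⁻¹ := h'
      _ = _ := by rw [hk]
  have h3 : Commute m (eltL * ftGen 1 * eltL) := mul_inv_eq_iff_eq_mul.1 h2
  have h4 := (hml.symm.mul_right h3).mul_right hml.symm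
  rwa [show eltL * (eltL * ftGen 1 * eltL) * eltL = ftGen 1 by
    simp only [mul_assoc, eltL_sq, mul_one, ← mul_assoc eltL eltL, one_mul]] at h4

/-- A product of two nodes is carried by the trace element to a product of nodes. -/
theorem tri24_two {g h : ℕ} (hg : 2 < g) (hg' : g < 12) (hh : 2 < h) (hh' : h < 12) :
    tri24⁻¹ * (genH g * genH h) * tri24 ∈ closure nodes := by
  refine mem_nodes ?_ ?_
  · exact ((tri24_comm.inv_left).mul_left ((node_comm hg hg').mul_left (node_comm hh hh'))).mul_left tri24_comm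
  · rw [map_mul, map_mul, map_mul, map_inv, tri24_piL, piL_node (by omega) hg', piL_node (by omega) hh',
      ← nod_coe (show 1 ≤ g - 2 by omega) (by omega), ← nod_coe (show 1 ≤ h - 2 by omega) (by omega)]
    exact two_nodes (by omega) (by omega) (by omega) (by omega) triS

/-- An element commuting with the second and twelfth generators is a product of nodes. -/
theorem commute_nodes {m : ↥Fi24P.subgH} (h : Commute (m : Cfsg.Spor.Fi24) (ftGen 1))
    (h' : Commute (m : Cfsg.Spor.Fi24) (ftGen 11)) : m ∈ closure nodes := by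
  refine mem_nodes h (commute_nine (u := ⟨piL m, piL_subOne h⟩) (Subtype.ext ?_))
  show piL m * (nod 9 : Cfsg.Spor.Fi23) = (nod 9 : Cfsg.Spor.Fi23) * piL m
  rw [nod_coe (by norm_num) (by norm_num), show (9 : ℕ) = 11 - 2 from rfl, ← piL_node (g := 11) (by norm_num) (by norm_num),
    ← map_mul, ← map_mul]
  exact congrArg piL (Subtype.ext (by
    simp only [Subgroup.coe_mul, genH_coe (show (11 : ℕ) < 12 by norm_num) (by norm_num)]
    exact h'.eq))

end CfsgLib.LargeFischer.Ext
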