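import Cfsg.Agent.Lib.LargeFischer.Ext.Defs
import Cfsg.Agent.Lib.Fi24P.Edges
import Cfsg.Agent.Lib.LargeFischer.Ext.OrthStab
import Cfsg.Agent.Lib.Fi24P.Triple.Hom

/-!
# The last relator for the images of the generators
-/

set_option autoImplicit false
set_option maxRecDepth 100000
set_option maxHeartbeats 1000000
set_option linter.style.haveILetI false
set_option linter.unusedSectionVars false

namespace CfsgLib.LargeFischer.Ext

open CfsgLib.PresCert CfsgLib.Fi24P CfsgLib.Fi24P.ThreeT Subgroup

attribute [local irreducible] Fi23P.relShort Fi23P.levels Fi23P.wordA Fi23P.baseL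

theorem eight_short : relEight.all (fun w => (relShort ++ [relNine]).contains (w.map eightMap) ||
    (relShort ++ [relNine]).contains (w.map eightMap).reverse) = true := by
  decide +kernel

theorem commList_one : commList.all (fun p => !(Nat.beq p.2 1) && (!(Nat.beq p.1 1) || Nat.blt 2 p.2 && Nat.blt p.2 12) &&
    Nat.blt p.1 12 && Nat.blt p.2 12) = true := by
  decide +kernel

theorem braidList_one : braidList.all (fun p => (!(Nat.beq p.2 1) || Nat.beq p.1 0) &&
    (!(Nat.beq p.1 1) || Nat.beq p.2 2) && Nat.blt p.1 12 && Nat.blt p.2 12) = true := by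
  decide +kernel

/-- The relations of a set of generators satisfying the short ones. -/
theorem short_act {Q : Type*} [Group Q] (q : ℕ → Q) (hsq : ∀ g, g < 12 → q g * q g = 1)
    (hc : ∀ p ∈ commList, q p.1 * q p.2 = q p.2 * q p.1)
    (hb : ∀ p ∈ braidList, q p.1 * q p.2 * q p.1 = q p.2 * q p.1 * q p.2) :
    ∀ w ∈ relShort, act q w = 1 := by
  have hlt : ((commList ++ braidList).all fun p => Nat.blt p.1 12 && Nat.blt p.2 12) = true := by
    decide +kernel
  simp only [List.all_eq_true, Bool.and_eq_true, Nat.blt_eq, List.mem_append] at hlt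
  intro w hw
  simp only [relShort, List.mem_append, List.mem_map, List.mem_range, List.mem_flatMap,
    List.mem_cons, List.not_mem_nil, or_false] at hw
  rcases hw with (⟨g, hg, rfl⟩ | ⟨⟨g, h⟩, hp, rfl | rfl⟩) | ⟨⟨g, h⟩, hp, rfl | rfl⟩
  · simpa [act_cons, act_nil] using hsq g hg
  all_goals
    obtain ⟨hg, hh⟩ := hlt (g, h) (by first | exact Or.inl hp | exact Or.inr hp)
    have g2 := hsq g hg
    have h2 := hsq h hh
    simp only [act_cons, act_nil, one_mul]
  · have e : q g * q h = q h * q g := hc _ hp
    calc q h * q g * q h * q g = q g * (q h * q h) * q g := by rw [← e]; simp only [mul_assoc]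
      _ = 1 := by rw [h2, mul_one, g2]
  · have e : q g * q h = q h * q g := hc _ hp
    calc q g * q h * q g * q h = q h * (q g * q g) * q h := by rw [e]; simp only [mul_assoc]
      _ = 1 := by rw [g2, mul_one, h2]
  · have e : q g * q h * q g = q h * q g * q h := hb _ hp
    calc q h * q g * q h * q g * q h * q g = (q g * q h * q g) * (q g * q h * q g) := by
          conv_rhs => arg 1; rw [e]
          simp only [mul_assoc]
      _ = q g * q h * (q g * q g) * q h * q g := by simp only [mul_assoc]
      _ = 1 := by rw [g2, mul_one, mul_assoc (q g) (q h), h2, mul_one, g2]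
  · have e : q g * q h * q g = q h * q g * q h := hb _ hp
    calc q g * q h * q g * q h * q g * q h = (q h * q g * q h) * (q h * q g * q h) := by
          conv_rhs => arg 1; rw [← e]
          simp only [mul_assoc]
      _ = q h * q g * (q h * q h) * q g * q h := by simp only [mul_assoc]
      _ = 1 := by rw [h2, mul_one, mul_assoc (q h) (q g), g2, mul_one, h2]

variable {X : Type*} [Group X] {G₀ : Subgroup X} {z : ↥G₀}

section

variable (L : Model G₀ z) (V : X)

/-- The pairs of a generator and its image. -/
noncomputable def pairGen (g : ℕ) : Cfsg.Spor.Fi24 × X := (ftGen g, L.gens V g)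

/-- The pairs over the centraliser. -/
noncomputable def pairHom : ↥Fi24P.subgH →* Cfsg.Spor.Fi24 × X := (Subgroup.subtype _).prod L.φ

theorem pair_gen {g : ℕ} (hg : g < 12) (h1 : g ≠ 1) : pairGen L V g = pairHom L (genH g) :=
  Prod.ext (genH_coe hg h1).symm (if_neg h1)

theorem pair_word : ∀ {w : List ℕ} (h : hLetters w = true),
    act (pairGen L V) w = pairHom L ⟨act ftGen w, hLetters_mem h⟩ := by
  intro w
  induction w with
  | nil =>
    intro h
    rw [act_nil, ← map_one (pairHom L)]
    exact congrArg _ (Subtype.ext (by simp [act_nil]))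
  | cons g w ih =>
    intro h
    obtain ⟨hg, hg1⟩ := hLetters_spec h g List.mem_cons_self
    have hw : hLetters w = true := by
      simp only [hLetters, List.all_cons, Bool.and_eq_true] at h ⊢
      exact h.2
    rw [act_cons, ih hw, pair_gen L V hg hg1, ← map_mul]
    exact congrArg _ (Subtype.ext (by simp only [Subgroup.coe_mul, genH_coe hg hg1, act_cons]))

theorem pair_fst : ∀ w : List ℕ, (act (pairGen L V) w).1 = act ftGen w
  | [] => by rw [act_nil, act_nil]; rfl
  | g :: w => by rw [act_cons, act_cons, Prod.fst_mul, pair_fst w]; rfl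

theorem pair_snd : ∀ w : List ℕ, (act (pairGen L V) w).2 = act (L.gens V) w
  | [] => by rw [act_nil, act_nil]; rfl
  | g :: w => by rw [act_cons, act_cons, Prod.snd_mul, pair_snd w]; rfl

theorem pair_eq_of_sameElt {u v : List ℕ} (h : sameElt u v = true) :
    act (pairGen L V) u = act (pairGen L V) v := by
  have h' := h
  simp only [sameElt, Bool.and_eq_true] at h'
  rw [pair_word L V h'.1.1.1, pair_word L V h'.1.1.2]
  exact congrArg _ (Subtype.ext (CfsgLib.Fi24P.eq_of_sameElt h))

variable {L V} (hV : L.Node V)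
include hV

theorem gens_sq {g : ℕ} (hg : g < 12) : L.gens V g * L.gens V g = 1 := by
  by_cases h : g = 1
  · rw [Model.gens, if_pos h]; exact hV.sq
  · rw [Model.gens, if_neg h, ← map_mul, show genH g * genH g = 1 from Subtype.ext (by
      rw [Subgroup.coe_mul, genH_coe hg h, ftGen_sq g hg]; rfl), map_one]

theorem gens_comm : ∀ p ∈ commList, L.gens V p.1 * L.gens V p.2 = L.gens V p.2 * L.gens V p.1 := by
  rintro ⟨g, h⟩ hm
  have h' := List.all_eq_true.1 commList_one _ hm
  simp only [Bool.and_eq_true, Bool.or_eq_true, Bool.not_eq_true', Nat.blt_eq] at h'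
  have h1 : h ≠ 1 := by rintro rfl; simpa using h'.1.1.1
  by_cases g1 : g = 1
  · subst g1
    obtain ⟨a, b⟩ := h'.1.1.2.resolve_left (by simp)
    simp only [Model.gens, if_pos, if_neg h1]
    exact (hV.comm h a b).symm
  · simp only [Model.gens, if_neg g1, if_neg h1, ← map_mul]
    exact congrArg L.φ (Subtype.ext (by
      simp only [Subgroup.coe_mul, genH_coe h'.1.2 g1, genH_coe h'.2 h1]
      exact gen_comm hm))

theorem gens_braid : ∀ p ∈ braidList,
    L.gens V p.1 * L.gens V p.2 * L.gens V p.1 = L.gens V p.2 * L.gens V p.1 * L.gens V p.2 := by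
  rintro ⟨g, h⟩ hm
  have h' := List.all_eq_true.1 braidList_one _ hm
  simp only [Bool.and_eq_true, Bool.or_eq_true, Bool.not_eq_true', Nat.beq_eq, Nat.blt_eq] at h'
  by_cases g1 : g = 1
  · subst g1
    obtain rfl : h = 2 := h'.1.1.2.resolve_left (by simp)
    simp only [Model.gens, if_pos, if_neg (show (2 : ℕ) ≠ 1 by norm_num)]
    exact hV.braid_two.symm
  · by_cases h1 : h = 1
    · subst h1
      obtain rfl : g = 0 := h'.1.1.1.resolve_left (by simp)
      have e0 : L.φ (genH 0) = L.d := by
        rw [← L.map_l]; exact congrArg L.φ (Subtype.ext (genH_coe (by norm_num) (by norm_num)))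
      simp only [Model.gens, if_pos, if_neg g1, e0]
      exact hV.braid_zero
    · simp only [Model.gens, if_neg g1, if_neg h1, ← map_mul]
      exact congrArg L.φ (Subtype.ext (by
        simp only [Subgroup.coe_mul, genH_coe h'.1.2 g1, genH_coe h'.2 h1]
        exact gen_braid hm))

local notation "x₂" => pairGen L V

theorem x_sq {g : ℕ} (hg : g < 12) : x₂ g * x₂ g = 1 := Prod.ext (ftGen_sq g hg) (gens_sq hV hg)

theorem x_comm {g h : ℕ} (hm : (g, h) ∈ commList) : x₂ g * x₂ h = x₂ h * x₂ g :=
  Prod.ext (gen_comm hm) (gens_comm hV _ hm)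

theorem x_braid {g h : ℕ} (hm : (g, h) ∈ braidList) : x₂ g * x₂ h * x₂ g = x₂ h * x₂ g * x₂ h :=
  Prod.ext (gen_braid hm) (gens_braid hV _ hm)

theorem x_short_nine : ∀ w ∈ relShort ++ [relNine], act x₂ w = 1 := by
  intro w hw
  rcases List.mem_append.1 hw with hw | hw
  · exact short_act x₂ (fun _ hg => x_sq hV hg) (fun p hp => x_comm hV hp) (fun p hp => x_braid hV hp) w hw
  · obtain rfl := List.mem_singleton.1 hw
    rw [pair_word L V (w := relNine) (by decide +kernel), ← map_one (pairHom L)]
    exact congrArg _ (Subtype.ext (relData_act (by simp [relData])))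

theorem x_eight_rels : ∀ w ∈ relEight, act (fun k => x₂ (eightMap k)) w = 1 := by
  intro w hw
  rw [act_map]
  have h := List.all_eq_true.1 eight_short w hw
  simp only [Bool.or_eq_true, List.contains_iff_mem] at h
  rcases h with h | h
  · exact x_short_nine hV _ h
  · have h2 := x_short_nine hV _ h
    rw [act_reverse (ng := 12) (fun _ hg => x_sq hV hg) (fun g hg => by
      obtain ⟨k, -, rfl⟩ := List.mem_map.1 hg
      exact eightMap_lt k), inv_eq_one] at h2
    exact h2

omit hV in
theorem x_seven : Finite (genGrp sevenW x₂) ∧ Nat.card (genGrp sevenW x₂) ≤ 2903040 := by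
  obtain ⟨h1, h2⟩ := seven_le
  haveI := h1
  have hle : genGrp sevenW ftGen ≤ Fi24P.subgH := (Subgroup.closure_le _).2 (by
    rintro _ ⟨w, hw, rfl⟩
    refine hLetters_mem ?_
    simp only [sevenW, List.mem_cons, List.not_mem_nil, or_false] at hw
    rcases hw with rfl | rfl | rfl | rfl | rfl | rfl | rfl <;> rfl)
  let f : ↥(genGrp sevenW ftGen) →* Cfsg.Spor.Fi24 × X := (pairHom L).comp (Subgroup.inclusion hle)
  have e : genGrp sevenW x₂ ≤ f.range := (Subgroup.closure_le _).2 (by
    rintro _ ⟨w, hw, rfl⟩
    have hl : hLetters w = true := by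
      simp only [sevenW, List.mem_cons, List.not_mem_nil, or_false] at hw
      rcases hw with rfl | rfl | rfl | rfl | rfl | rfl | rfl <;> rfl
    exact ⟨⟨act ftGen w, Subgroup.subset_closure ⟨w, hw, rfl⟩⟩, (pair_word L V hl).symm⟩)
  haveI : Finite f.range := Finite.of_surjective f.rangeRestrict f.rangeRestrict_surjective
  exact ⟨Finite.of_injective _ (Subgroup.inclusion_injective e),
    (Nat.card_le_card_of_injective _ (Subgroup.inclusion_injective e)).trans
      ((Nat.card_le_card_of_surjective f.rangeRestrict f.rangeRestrict_surjective).trans h2)⟩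

theorem x_eight_eq {u v : List ℕ} (h : sameEight u v = true) : act x₂ u = act x₂ v := by
  set gen9 : ℕ → Cfsg.Spor.Fi24 × X := fun k => x₂ (eightMap k) with hgen
  set GE := genGrp eightAll gen9
  have hs : genGrp eightSub gen9 = genGrp sevenW x₂ := by
    rw [genGrp, genGrp]
    congr 1
    ext m
    simp only [eightSub, sevenW, List.mem_cons, List.not_mem_nil, or_false, exists_eq_or_imp,
      exists_eq_left, act_cons, act_nil, one_mul]
    rfl
  obtain ⟨h1, h2⟩ := x_seven (L := L) (V := V)
  rw [← hs] at h1 h2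
  haveI := h1
  obtain ⟨a1, a2, a3⟩ := certEight_words
  have H : Hyp certEight gen9 ((1 : Cfsg.Spor.Fi24 × X) : (Cfsg.Spor.Fi24 × X) ⧸ genGrp eightSub gen9) :=
    hyp_of_checks (fun g _ => x_sq hV (eightMap_lt g)) (x_eight_rels hV) (fun w hw => fix_coset hw) a1 a2
  obtain ⟨g1, g2⟩ := card_le certEight_closed H
  haveI := g1
  have hcard : Nat.card GE ≤ 348364800 :=
    g2.trans (by rw [a3]; exact (Nat.mul_le_mul_left 120 h2).trans (by norm_num))
  have hmem : ∀ k, gen9 k ∈ GE := fun k => by
    by_cases hk : k < 9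
    · refine Subgroup.subset_closure ⟨[k], ?_, by simp [act_cons, act_nil]⟩
      interval_cases k <;> simp [eightAll]
    · have e : gen9 k = gen9 0 := by
        show x₂ (eightMap k) = x₂ (eightMap 0)
        rw [eightMap, List.getD_eq_default _ _ (by simp; omega)]; rfl
      rw [e]
      exact Subgroup.subset_closure ⟨[0], by simp [eightAll], by simp [act_cons, act_nil]⟩
  have hword : ∀ {w : List ℕ}, eightLetters w = true → act x₂ w ∈ GE := by
    intro w
    induction w with
    | nil => intro _; exact Subgroup.one_mem _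
    | cons g w ih =>
      intro h
      simp only [eightLetters, List.all_cons, Bool.and_eq_true, List.contains_iff_mem] at h
      rw [act_cons]
      refine Subgroup.mul_mem _ (ih h.2) ?_
      obtain ⟨k, hk, e⟩ := List.getElem_of_mem h.1
      have e' : x₂ g = gen9 k := by
        show x₂ g = x₂ (eightMap k)
        rw [eightMap, List.getD_eq_getElem _ _ hk, e]
      rw [e']
      exact hmem k
  let p : ↥GE →* ↥grpEight := ((MonoidHom.fst _ _).comp GE.subtype).codRestrict grpEight (fun w => by
    obtain ⟨m, hm⟩ := w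
    show m.1 ∈ grpEight
    induction hm using Subgroup.closure_induction with
    | mem t ht =>
      obtain ⟨v, hv, rfl⟩ := ht
      simp only [eightAll, List.mem_cons, List.not_mem_nil, or_false] at hv
      rcases hv with rfl | rfl | rfl | rfl | rfl | rfl | rfl | rfl | rfl <;>
        (simp only [act_cons, act_nil, one_mul]; exact eightGen_mem _)
    | one => exact grpEight.one_mem
    | mul a b _ _ ha hb => exact grpEight.mul_mem ha hb
    | inv a _ ha => exact grpEight.inv_mem ha)
  have psur : Function.Surjective p := by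
    rintro ⟨m, hm⟩
    suffices ∃ w ∈ GE, w.1 = m by
      obtain ⟨w, hw, e⟩ := this
      exact ⟨⟨w, hw⟩, Subtype.ext e⟩
    induction hm using Subgroup.closure_induction with
    | mem t ht =>
      obtain ⟨v, hv, rfl⟩ := ht
      exact ⟨act gen9 v, Subgroup.subset_closure ⟨v, hv, rfl⟩, by
        simp only [eightAll, List.mem_cons, List.not_mem_nil, or_false] at hv
        rcases hv with rfl | rfl | rfl | rfl | rfl | rfl | rfl | rfl | rfl <;>
          (simp only [act_cons, act_nil, one_mul]; rfl)⟩
    | one => exact ⟨1, GE.one_mem, rfl⟩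
    | mul a b _ _ ha hb =>
      obtain ⟨a', ha', rfl⟩ := ha
      obtain ⟨b', hb', rfl⟩ := hb
      exact ⟨a' * b', GE.mul_mem ha' hb', rfl⟩
    | inv a _ ha =>
      obtain ⟨a', ha', rfl⟩ := ha
      exact ⟨a'⁻¹, GE.inv_mem ha', rfl⟩
  haveI := eight_le.1
  have hlow : 348364800 ≤ Nat.card grpEight := by
    have h := Fast.card_lower realisedEight eight_levels.1
    rw [Fast.fixSub_nil, Subgroup.card_top, eight_levels.2] at h
    exact le_trans (Nat.le_mul_of_pos_right _ (Fast.fixSub_card_pos _)) h
  haveI : Finite GE := g1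
  have pinj : Function.Injective p :=
    ((Nat.bijective_iff_surjective_and_card p).2 ⟨psur, le_antisymm (hcard.trans hlow)
      (Nat.card_le_card_of_surjective p psur)⟩).1
  have h' := h
  simp only [sameEight, Bool.and_eq_true] at h'
  have e : p ⟨_, hword h'.1.1⟩ = p ⟨_, hword h'.1.2⟩ := Subtype.ext (by
    show (act x₂ u).1 = (act x₂ v).1
    rw [pair_fst, pair_fst]
    exact eq_of_eight h)
  exact congrArg Subtype.val (pinj e)

/-- The cosets of the graph of the model. -/
abbrev PairPts (L : Model G₀ z) : Type _ := (Cfsg.Spor.Fi24 × X) ⧸ (pairHom L).range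

omit hV in
/-- The base coset. -/
noncomputable def pairBase (L : Model G₀ z) : PairPts L := ((1 : Cfsg.Spor.Fi24 × X) : PairPts L)

omit hV in
/-- The roots. -/
noncomputable def pairRoot (L : Model G₀ z) (V : X) (R : ℕ) : PairPts L :=
  act (pairGen L V) (rootWord R) • pairBase L

omit hV in
/-- The coset of a state. -/
noncomputable def pairPt (L : Model G₀ z) (V : X) (st : ℕ × List ℕ) : PairPts L :=
  act (pairGen L V) st.2 • pairRoot L V st.1

omit hV in
theorem word_fix {w : List ℕ} (h : hLetters w = true) : act x₂ w • pairBase L = pairBase L := by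
  rw [pairBase, MulAction.Quotient.smul_coe, smul_eq_mul, mul_one, QuotientGroup.eq, mul_one, inv_mem_iff,
    pair_word L V h]
  exact ⟨_, rfl⟩

omit hV in
theorem gen_fix {g : ℕ} (hg : g < 12) (h1 : g ≠ 1) : x₂ g • pairBase L = pairBase L := by
  have h : hLetters [g] = true := by
    interval_cases g <;> first | exact absurd rfl h1 | decide
  simpa [act_cons, act_nil] using word_fix (L := L) (V := V) h

theorem x_second {w : List ℕ} (h : ∀ g ∈ w, 2 < g ∧ g < 12) : x₂ 1 * act x₂ w = act x₂ w * x₂ 1 := by
  induction w with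
  | nil => simp [act_nil]
  | cons g w ih =>
    obtain ⟨h1, h2⟩ := h g List.mem_cons_self
    have hc : x₂ 1 * x₂ g = x₂ g * x₂ 1 := x_comm hV (by interval_cases g <;> decide)
    rw [act_cons, ← mul_assoc, ih fun a ha => h a (List.mem_cons_of_mem _ ha), mul_assoc, hc, mul_assoc]

theorem x_first {w : List ℕ} (h : ∀ g ∈ w, 2 < g ∧ g < 12) :
    act x₂ w • pairRoot L V 1 = pairRoot L V 1 := by
  have hb : act x₂ w • pairBase L = pairBase L := word_fix (by
    simp only [hLetters, List.all_eq_true, Bool.and_eq_true, Nat.blt_eq, Bool.not_eq_true']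
    intro g hg
    obtain ⟨h1, h2⟩ := h g hg
    refine ⟨h2, ?_⟩
    interval_cases g <;> rfl)
  rw [pairRoot, rootWord, act_cons, act_nil, one_mul, ← mul_smul, ← x_second hV h, mul_smul, hb]

theorem x_fixWords : ∀ w ∈ fixWords,
    act x₂ w • act x₂ pathTwo • pairBase L = act x₂ pathTwo • pairBase L := by
  intro w hw
  have h : fixWords.all (fun w => w == [8] || w == [9] || w == [11] ||
      (identEight.map Prod.fst).contains w) = true := by decide +kernel
  have h' := List.all_eq_true.1 h w hw
  simp only [Bool.or_eq_true, beq_iff_eq, List.contains_iff_mem, List.mem_map] at h'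
  have cf : ∀ g : ℕ, g = 8 ∨ g = 9 ∨ g = 11 →
      act x₂ [g] • act x₂ pathTwo • pairBase L = act x₂ pathTwo • pairBase L := by
    intro g hg
    have hc : ∀ a ∈ pathTwo, Commute (x₂ a) (x₂ g) := by
      intro a ha
      simp only [pathTwo, List.mem_cons, List.not_mem_nil, or_false] at ha
      rcases hg with rfl | rfl | rfl <;> rcases ha with rfl | rfl | rfl | rfl <;>
        exact x_comm hV (by decide)
    have hb : x₂ g • pairBase L = pairBase L :=
      gen_fix (by rcases hg with rfl | rfl | rfl <;> norm_num)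
        (by rcases hg with rfl | rfl | rfl <;> norm_num)
    have he : Commute (act x₂ pathTwo) (x₂ g) := by
      simp only [pathTwo, act_cons, act_nil, one_mul]
      exact (((hc 1 (by decide)).mul_left (hc 2 (by decide))).mul_left (hc 0 (by decide))).mul_left
        (hc 1 (by decide))
    rw [act_cons, act_nil, one_mul, ← mul_smul, ← he.eq, mul_smul, hb]
  rcases h' with ((h' | h') | h') | ⟨⟨y, v⟩, hm, rfl⟩
  · subst h'; exact cf 8 (Or.inl rfl)
  · subst h'; exact cf 9 (Or.inr (Or.inl rfl))
  · subst h'; exact cf 11 (Or.inr (Or.inr rfl))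
  · have h2 := List.all_eq_true.1 ident_checks _ hm
    simp only [Bool.and_eq_true] at h2
    obtain ⟨⟨-, he⟩, hv⟩ := h2
    have e := x_eight_eq hV he
    rw [act_append, act_append, act_reverse (ng := 12) (fun _ hg => x_sq hV hg) (by decide)] at e
    have e2 := word_fix (L := L) (V := V) hv
    rw [← e, mul_smul, inv_smul_eq_iff, mul_smul] at e2
    exact e2

omit hV in
theorem x_witWord {S : List (List ℕ)} {y : PairPts L} (hS : ∀ w ∈ S, act x₂ w • y = y) :
    ∀ v : List ℕ, act x₂ (witWord S v) • y = y
  | [] => by simp [witWord, act_nil]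
  | k :: v => by
    have e : witWord S (k :: v) = S.getD k [] ++ witWord S v := by simp [witWord]
    rw [e, act_append, mul_smul]
    have h1 : act x₂ (S.getD k []) • y = y := by
      by_cases hk : k < S.length
      · rw [List.getD_eq_getElem _ _ hk]; exact hS _ (List.getElem_mem hk)
      · rw [List.getD_eq_default _ _ (Nat.le_of_not_lt hk), act_nil, one_smul]
    rw [h1, x_witWord hS v]

omit hV in
theorem x_rootTwo : pairRoot L V 2 = act x₂ wordMove • act x₂ pathTwo • pairBase L := by
  rw [pairRoot, rootWord, act_append, mul_smul]; rfl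

theorem x_standard {y : ℕ} (hy : y ∈ ([0, 2, 3, 4, 5, 6, 7, 8, 10, 11] : List ℕ)) :
    x₂ y • pairRoot L V 2 = pairRoot L V 2 := by
  have key : ∀ {y : ℕ} {v : List ℕ}, (y, v) ∈ conjData → x₂ y • pairRoot L V 2 = pairRoot L V 2 := by
    intro y v hm
    have e := pair_eq_of_sameElt L V (List.all_eq_true.1 conj_checks.1 _ hm)
    rw [act_append, act_append, act_cons, act_nil, one_mul,
      act_reverse (ng := 12) (fun _ hg => x_sq hV hg) move_lt] at e
    have e2 := x_witWord (x_fixWords hV) v
    rw [← e, mul_smul, inv_smul_eq_iff, mul_smul] at e2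
    rw [x_rootTwo]
    exact e2
  by_cases h0 : y = 0
  · subst h0
    have hl := x_fixWords hV [0] (by decide +kernel)
    rw [act_cons, act_nil, one_mul] at hl
    have hc : x₂ 0 * act x₂ wordMove = act x₂ wordMove * x₂ 0 := by
      rw [pair_word L V conj_checks.2.2, pair_gen L V (by norm_num) (by norm_num), ← map_mul, ← map_mul]
      refine congrArg _ (Subtype.ext ?_)
      simp only [Subgroup.coe_mul, genH_coe (show 0 < 12 by norm_num) (show 0 ≠ 1 by norm_num)]
      exact eltL_comm_act (hLetters_spec conj_checks.2.2)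
    rw [x_rootTwo, ← mul_smul, hc, mul_smul, hl]
  · have : y ∈ conjData.map Prod.fst := by
      rw [conj_checks.2.1]
      simp only [List.mem_cons, List.not_mem_nil, or_false] at hy ⊢
      omega
    obtain ⟨⟨a, v⟩, hm, rfl⟩ := List.mem_map.1 this
    exact key hm

theorem x_secondEq {u v : List ℕ} (hu : hLetters u = true) (hv : hLetters v = true)
    (h : Fi23P.tab.walk 0 (projW u) = Fi23P.tab.walk 0 (projW v)) :
    act x₂ u • pairRoot L V 2 = act x₂ v • pairRoot L V 2 := by
  let ps : Cfsg.Spor.Fi23 →* Cfsg.Spor.Fi24 × X :=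
    (pairHom L).comp (psi.codRestrict Fi24P.subgH psi_mem)
  have hps : ∀ z', z' ∈ Fi23P.subH → ps z' • pairRoot L V 2 = pairRoot L V 2 := by
    have hle : Fi23P.subH ≤ (MulAction.stabilizer (Cfsg.Spor.Fi24 × X) (pairRoot L V 2)).comap ps := by
      refine (Subgroup.closure_le _).2 ?_
      rintro _ ⟨w, hw, rfl⟩
      simp only [Fi23P.sH, List.mem_cons, List.not_mem_nil, or_false] at hw
      have key : ∀ k < 10, k + 2 ∈ ([0, 2, 3, 4, 5, 6, 7, 8, 10, 11] : List ℕ) →
          act Fi23P.fiGen [k] ∈ (MulAction.stabilizer (Cfsg.Spor.Fi24 × X) (pairRoot L V 2)).comap ps := by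
        intro k hk hm
        have e : ps (Fi23P.fiGen k) = x₂ (k + 2) * x₂ 0 := by
          rw [pair_gen L V (g := k + 2) (by omega) (by omega), pair_gen L V (g := 0) (by norm_num) (by norm_num),
            ← map_mul]
          show pairHom L _ = _
          refine congrArg _ (Subtype.ext ?_)
          show psi (Fi23P.fiGen k) = (genH (k + 2) : Cfsg.Spor.Fi24) * genH 0
          rw [psi_gen hk, smallGen, genH_coe (by omega) (by omega), genH_coe (by norm_num) (by norm_num)]
        rw [Subgroup.mem_comap, MulAction.mem_stabilizer_iff, act_cons, act_nil, one_mul, e, mul_smul,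
          x_standard hV (y := 0) (by decide), x_standard hV hm]
      rcases hw with rfl | rfl | rfl | rfl | rfl | rfl | rfl | rfl | rfl <;>
        exact key _ (by norm_num) (by decide)
    exact fun z' hz' => hle hz'
  have hform : ∀ {w : List ℕ}, hLetters w = true →
      act x₂ w = ps (act Fi23P.fiGen (projW w)) * x₂ 0 ^ w.length := by
    intro w hw
    rw [pair_word L V hw, pair_gen L V (g := 0) (by norm_num) (by norm_num), ← map_pow]
    show _ = pairHom L _ * _
    rw [← map_mul]
    refine congrArg _ (Subtype.ext ?_)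
    simp only [Subgroup.coe_mul, Subgroup.coe_pow, genH_coe (show 0 < 12 by norm_num) (show 0 ≠ 1 by norm_num)]
    exact act_eq_psi (hLetters_spec hw)
  have hl : ∀ m : ℕ, x₂ 0 ^ m • pairRoot L V 2 = pairRoot L V 2 := by
    intro m
    induction m with
    | zero => rw [pow_zero, one_smul]
    | succ m ih => rw [pow_succ, mul_smul, x_standard hV (y := 0) (by decide), ih]
  rw [hform hu, hform hv, mul_smul, mul_smul, hl, hl]
  set a := act Fi23P.fiGen (projW u)
  set b := act Fi23P.fiGen (projW v)
  have hlt : ∀ {w : List ℕ}, hLetters w = true → ∀ g ∈ projW w, g < Fi23P.tab.ng := by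
    intro w hw g hg
    simp only [projW, List.mem_map, List.mem_filter] at hg
    obtain ⟨k, ⟨hk, -⟩, rfl⟩ := hg
    have := (hLetters_spec hw k hk).1
    show k - 2 < 10
    omega
  have hmem : b⁻¹ * a ∈ Fi23P.subH := by
    rw [Fi23P.subH_eq]
    intro i hi
    rw [map_mul, Equiv.Perm.mul_apply, map_inv, Equiv.Perm.inv_def, Equiv.symm_apply_eq]
    refine Fin.ext ?_
    rw [Fi23P.realised.act_apply (hlt hu), Fi23P.realised.act_apply (hlt hv),
      List.mem_singleton.1 hi]
    exact h
  have := hps _ hmem
  rw [map_mul, map_inv, mul_smul, inv_smul_eq_iff] at this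
  exact this

theorem x_eqState {S : List (List ℕ)} (hS : ∀ w ∈ S, act x₂ w • pairRoot L V 1 = pairRoot L V 1)
    {R : ℕ} {h h2 v : List ℕ} (he : eqState S R h h2 v = true) :
    act x₂ h • pairRoot L V R = act x₂ h2 • pairRoot L V R := by
  match R with
  | 0 =>
    simp only [eqState, Bool.and_eq_true] at he
    have e : pairRoot L V 0 = pairBase L := by simp [pairRoot, rootWord, act_nil]
    rw [e, word_fix he.1, word_fix he.2]
  | 1 =>
    rw [pair_eq_of_sameElt L V he, act_append, mul_smul, x_witWord hS]
  | 2 =>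
    simp only [eqState, Bool.and_eq_true, Nat.beq_eq] at he
    exact x_secondEq hV he.1.1 he.1.2 he.2
  | R + 3 => simp [eqState] at he

omit hV in
/-- An edge holds. -/
def PairEdge (L : Model G₀ z) (V : X) (p : (ℕ × List ℕ) × (ℕ × List ℕ)) : Prop :=
  pairGen L V 1 • pairPt L V p.1 = pairPt L V p.2

omit hV in
/-- The edges below a number hold. -/
def PairEdges (L : Model G₀ z) (V : X) (k : ℕ) : Prop :=
  ∀ e < k, PairEdge L V (edgeData.getD e ((9, []), (9, [])))

theorem x_side {k e : ℕ} (h : PairEdges L V k) (he : e < k) (f : Bool) :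
    PairEdge L V (edgeSide edgeData e f) := by
  have := h e he
  cases f
  · exact this
  · show x₂ 1 • pairPt L V (edgeData.getD e ((9, []), (9, []))).2 = pairPt L V (edgeData.getD e ((9, []), (9, []))).1
    rw [show pairPt L V (edgeData.getD e ((9, []), (9, []))).2 = x₂ 1 • pairPt L V _ from this.symm, ← mul_smul,
      x_sq hV (by norm_num), one_smul]

omit hV in
theorem pairPt_append (R : ℕ) (a b : List ℕ) :
    pairPt L V (R, a ++ b) = act x₂ b • pairPt L V (R, a) := by
  simp only [pairPt]; rw [act_append, mul_smul]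

theorem x_useOk {S : List (List ℕ)} (hS : ∀ w ∈ S, act x₂ w • pairRoot L V 1 = pairRoot L V 1) {k : ℕ}
    (hE : PairEdges L V k) {st : ℕ × List ℕ} {u : Use} (h : useOk edgeData S k st u = true) :
    x₂ 1 • pairPt L V st = pairPt L V (useRes edgeData u) := by
  simp only [useOk, Bool.and_eq_true, Nat.blt_eq, Nat.beq_eq] at h
  obtain ⟨⟨⟨h1, h2⟩, h3⟩, h4⟩ := h
  have ht : x₂ 1 • pairPt L V (edgeSide edgeData u.edge u.flip).1 =
      pairPt L V (edgeSide edgeData u.edge u.flip).2 := x_side hV hE h1 u.flip
  have e : pairPt L V st = pairPt L V ((edgeSide edgeData u.edge u.flip).1.1,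
      (edgeSide edgeData u.edge u.flip).1.2 ++ u.mid) := by
    rw [h3]; exact x_eqState hV hS h4
  rw [e, useRes, pairPt_append, pairPt_append, ← mul_smul, x_second hV (kLetters_spec h2), mul_smul, ht]

theorem x_stepOk {S : List (List ℕ)} (hS : ∀ w ∈ S, act x₂ w • pairRoot L V 1 = pairRoot L V 1) {k : ℕ}
    (hE : PairEdges L V k) {s : Step} (h : stepOk edgeData S k s = true) :
    PairEdge L V (edgeData.getD k ((9, []), (9, []))) := by
  simp only [stepOk, Bool.and_eq_true, Nat.blt_eq, Bool.or_eq_true, Nat.beq_eq,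
    decide_eq_true_eq] at h
  obtain ⟨⟨⟨⟨h1, h2⟩, h3⟩, h4⟩, h5⟩ := h
  rw [h5]
  set a := (edgeSide edgeData s.edge s.flip).1
  set b := (edgeSide edgeData s.edge s.flip).2
  set r := useRes edgeData s.use
  set c := s.letter
  have hab : x₂ 1 • pairPt L V (a.1, a.2 ++ s.mid) = pairPt L V (b.1, b.2 ++ s.mid) := by
    rw [pairPt_append, pairPt_append, ← mul_smul, x_second hV (kLetters_spec h2), mul_smul]
    exact congrArg _ (x_side hV hE h1 s.flip)
  have hqr : x₂ 1 • pairPt L V (b.1, b.2 ++ s.mid ++ [c]) = pairPt L V r := x_useOk hV hS hE h4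
  have hbr : x₂ 1 * x₂ c * x₂ 1 = x₂ c * x₂ 1 * x₂ c := by
    rcases h3 with e | e <;> rw [e]
    · exact (x_braid hV (g := 0) (h := 1) (by decide)).symm
    · exact x_braid hV (g := 1) (h := 2) (by decide)
  have hp : x₂ 1 • pairPt L V (b.1, b.2 ++ s.mid) = pairPt L V (a.1, a.2 ++ s.mid) := by
    rw [← hab, ← mul_smul, x_sq hV (by norm_num), one_smul]
  show x₂ 1 • pairPt L V (a.1, a.2 ++ s.mid ++ [c]) = pairPt L V (r.1, r.2 ++ [c])
  rw [pairPt_append a.1 (a.2 ++ s.mid) [c], pairPt_append r.1 r.2 [c], act_cons, act_nil, one_mul,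
    ← hp, ← mul_smul, ← mul_smul, hbr, mul_smul, mul_smul]
  rw [pairPt_append b.1 (b.2 ++ s.mid) [c], act_cons, act_nil, one_mul] at hqr
  rw [hqr]

theorem x_edges_seven : PairEdges L V 7 := by
  have start : PairEdges L V 2 := by
    have h : edgeData.getD 0 ((9, []), (9, [])) = ((0, []), (1, [])) ∧
        edgeData.getD 1 ((9, []), (9, [])) = ((1, [0, 2]), (2, wordMove.reverse)) := by decide +kernel
    intro e he
    obtain rfl | rfl : e = 0 ∨ e = 1 := by omega
    · rw [h.1]
      simp [PairEdge, pairPt, pairRoot, rootWord, act_cons, act_nil]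
    · rw [h.2]
      show x₂ 1 • pairPt L V (1, [0, 2]) = pairPt L V (2, wordMove.reverse)
      simp only [pairPt, x_rootTwo]
      rw [act_reverse (ng := 12) (fun _ hg => x_sq hV hg) move_lt, inv_smul_smul]
      simp only [pairRoot, rootWord, pathTwo, act_cons, act_nil, one_mul, mul_smul]
  have hS : ∀ w ∈ stabFirst, act x₂ w • pairRoot L V 1 = pairRoot L V 1 := by
    intro w hw
    refine x_first hV fun g hg => ?_
    have h : stabFirst.all (fun w => w.all fun g => Nat.blt 2 g && Nat.blt g 12) = true := by
      decide +kernel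
    have := List.all_eq_true.1 (List.all_eq_true.1 h w hw) g hg
    simpa only [Bool.and_eq_true, Nat.blt_eq] using this
  suffices ∀ j, j ≤ 7 → PairEdges L V j from this 7 le_rfl
  intro j
  induction j with
  | zero => intro _ e he; exact absurd he (Nat.not_lt_zero e)
  | succ j ih =>
    intro hj e he
    rcases Nat.lt_succ_iff_lt_or_eq.1 he with h1 | rfl
    · exact ih (by omega) e h1
    · by_cases h2 : e < 2
      · exact start e h2
      · have := List.all_eq_true.1 steps_first (e - 2) (List.mem_range.2 (by omega))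
        rw [show e - 2 + 2 = e by omega] at this
        exact x_stepOk hV hS (ih (by omega)) this

theorem x_tracePath {S : List (List ℕ)} (hS : ∀ w ∈ S, act x₂ w • pairRoot L V 1 = pairRoot L V 1) {k : ℕ}
    (hE : PairEdges L V k) : ∀ {w : List ℕ} {us : List Use} {st st' : ℕ × List ℕ},
      tracePath edgeData S k st w us = some st' → act x₂ w • pairPt L V st = pairPt L V st'
  | [], us, st, st', h => by
    simp only [tracePath, Option.some.injEq] at h
    rw [h, act_nil, one_smul]
  | g :: w, us, st, st', h => by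
    unfold tracePath at h
    rw [act_cons, mul_smul]
    by_cases hg : Nat.beq g 1 = true
    · rw [if_pos hg] at h
      obtain rfl : g = 1 := Nat.beq_eq.mp hg
      rcases us with _ | ⟨u, us⟩
      · simp at h
      · by_cases hu : useOk edgeData S k st u = true
        · simp only [hu, if_true] at h
          rw [x_useOk hV hS hE hu]
          exact x_tracePath hS hE h
        · simp [hu] at h
    · rw [if_neg hg] at h
      by_cases h12 : Nat.blt g 12 = true
      · rw [if_pos h12] at h
        have := x_tracePath hS hE h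
        rw [pairPt_append, act_cons, act_nil, one_mul] at this
        exact this
      · rw [if_neg h12] at h
        simp at h

theorem gens_seventeen : act (L.gens V) relSeventeen = 1 := by
  obtain ⟨hA, hB, hA1, hB1, htri, hlT, hlt, hlt2⟩ := trace_checks
  obtain ⟨⟨ra, a⟩, ea⟩ := Option.isSome_iff_exists.1 hA
  obtain ⟨⟨rb, b⟩, eb⟩ := Option.isSome_iff_exists.1 hB
  rw [ea, Option.getD_some] at hA1 htri
  rw [eb, Option.getD_some] at hB1 htri hlt
  simp only at hA1 hB1 htri hlt
  subst hA1 hB1
  have hS : ∀ w ∈ stabFirst, act x₂ w • pairRoot L V 1 = pairRoot L V 1 := by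
    intro w hw
    refine x_first hV fun g hg => ?_
    have h : stabFirst.all (fun w => w.all fun g => Nat.blt 2 g && Nat.blt g 12) = true := by
      decide +kernel
    have := List.all_eq_true.1 (List.all_eq_true.1 h w hw) g hg
    simpa only [Bool.and_eq_true, Nat.blt_eq] using this
  have h1 := x_tracePath hV hS (x_edges_seven hV) ea
  have h2 := x_tracePath hV hS (x_edges_seven hV) eb
  have htfix : act x₂ wordTri • pairRoot L V 1 = pairRoot L V 1 := by
    have hc : x₂ 1 * act x₂ wordTri = act x₂ wordTri * x₂ 1 := by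
      refine Prod.ext ?_ ?_
      · rw [Prod.fst_mul, Prod.fst_mul, pair_fst]
        exact tri24_comm.eq.symm
      · rw [Prod.snd_mul, Prod.snd_mul, pair_snd]
        show L.gens V 1 * _ = _ * L.gens V 1
        rw [show L.gens V 1 = V from if_pos rfl]
        exact hV.tri.symm
    rw [pairRoot, rootWord, act_cons, act_nil, one_mul, ← mul_smul, ← hc, mul_smul, word_fix hlT]
  have hB' : ∀ g ∈ relSeventeen.reverse.drop traceCut, g < 12 := fun g hg =>
    Nat.blt_eq.mp (List.all_eq_true.1 hlt2 g hg)
  rw [act_reverse (ng := 12) (fun _ ha => x_sq hV ha) hB'] at h2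
  rw [← htri, act_append, mul_smul,
    act_reverse (ng := 12) (fun _ ha => x_sq hV ha) fun g hg => Nat.blt_eq.mp (List.all_eq_true.1 hlt g hg),
    inv_smul_eq_iff] at htfix
  set A := act x₂ (relSeventeen.reverse.take traceCut) with hAdef
  set B := act x₂ (relSeventeen.reverse.drop traceCut) with hBdef
  have hAB : (B * A) • pairBase L = pairBase L := by
    have e0 : pairPt L V (0, []) = pairBase L := by simp [pairPt, pairRoot, rootWord, act_nil]
    rw [e0] at h1 h2
    have e3 : A • pairBase L = B⁻¹ • pairBase L := by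
      rw [h1, h2]; exact htfix
    rw [mul_smul, e3, smul_inv_smul]
  have hz : B * A = act x₂ relSeventeen.reverse := by
    rw [hAdef, hBdef, ← act_append, List.take_append_drop]
  rw [hz, pairBase, MulAction.Quotient.smul_coe, smul_eq_mul, mul_one, QuotientGroup.eq, mul_one, inv_mem_iff] at hAB
  obtain ⟨m, hm⟩ := hAB
  have hmem : relSeventeen ∈ relData := by simp [relData]
  have hf : (m : Cfsg.Spor.Fi24) = 1 := by
    have := congrArg Prod.fst hm
    rw [pair_fst, act_reverse (ng := 12) ftGen_sq (relData_lt hmem), relData_act hmem, inv_one] at this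
    exact this
  have hs := congrArg Prod.snd hm
  rw [pair_snd, act_reverse (ng := 12) (fun g hg => gens_sq hV hg) (relData_lt hmem)] at hs
  have hm1 : m = 1 := Subtype.ext hf
  rw [hm1] at hs
  exact inv_eq_one.1 (hs.symm.trans (map_one L.φ))

/-- The node extends the model to the presented group. -/
theorem Model.exists_hom : ∃ Φ : Cfsg.Spor.Fi24 →* X, ∀ m : ↥Fi24P.subgH, Φ m = L.φ m := by
  have h9 : act (L.gens V) relNine = 1 := by
    rw [← pair_snd L V, x_short_nine hV relNine (List.mem_append_right _ List.mem_cons_self)]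
    rfl
  obtain ⟨Φ, hΦ⟩ := Fi24P.Triple.exists_hom (L.gens V) (fun _ hg => gens_sq hV hg) (gens_comm hV) (gens_braid hV)
    h9 (gens_seventeen hV)
  refine ⟨Φ, ?_⟩
  rintro ⟨m, hm⟩
  show Φ m = _
  induction hm using Subgroup.closure_induction with
  | mem s hs =>
    obtain ⟨w, hw, rfl⟩ := hs
    simp only [hList, List.mem_cons, List.not_mem_nil, or_false] at hw
    rcases hw with rfl | rfl | rfl | rfl | rfl | rfl | rfl | rfl | rfl | rfl | rfl <;>
      (simp only [act_cons, act_nil, one_mul]
       rw [hΦ _ (by norm_num), Model.gens, if_neg (by norm_num)]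
       exact congrArg L.φ (Subtype.ext (genH_coe (by norm_num) (by norm_num))))
  | one => rw [map_one, ← map_one L.φ]; rfl
  | mul a b ha hb ha' hb' => rw [map_mul, ha', hb', ← map_mul]; rfl
  | inv a ha ha' => rw [map_inv, ha', ← map_inv]; rfl

end

end CfsgLib.LargeFischer.Ext
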