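import Cfsg.Agent.Lib.Fi24P.ThreeT.Types
import Cfsg.Agent.Lib.LargeFischer.Outer.Quot

/-!
# Groups isomorphic to the presented group `Fi24` are of type `M(24)`
-/

set_option autoImplicit false
set_option maxRecDepth 100000

namespace CfsgLib.LargeFischer.Ext

open CfsgLib.ThreeTransp (link)
open CfsgLib.ThreeTransp.Factor (linkSub)
open CfsgLib.M23 (closureQuotEquiv image_link Q E)

/-- Being of type `M(24)` is invariant under isomorphism. -/
theorem isOfTypeM24_equiv {A B : Type*} [Group A] [Group B] (e : A ≃* B) {E₀ : Set A}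
    (h : Cfsg.IsOfTypeM24 A E₀) : Cfsg.IsOfTypeM24 B (e '' E₀) := by
  obtain ⟨hZ, d, hd, c, hc, hdc, hH, N, hN, ⟨g⟩, ⟨p⟩⟩ := h
  refine ⟨?_, e d, ⟨d, hd, rfl⟩, e c, ⟨c, hc, rfl⟩, fun hh => hdc (by simpa using hh.map e.symm), ?_, ?_⟩
  · rw [eq_bot_iff]
    intro z hz
    have : e.symm z ∈ Subgroup.center A := Subgroup.mem_center_iff.2 fun g =>
      e.injective (by simpa using Subgroup.mem_center_iff.1 hz (e g))
    rw [hZ, Subgroup.mem_bot] at this
    exact Subgroup.mem_bot.2 (by simpa using congrArg e this)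
  · obtain ⟨f, hf⟩ := CfsgLib.Fi24P.ThreeT.link_quot_equiv e (X := E₀) rfl d
    exact CfsgLib.M24.isOfTypeM23_equiv f hf hH
  · obtain ⟨k⟩ := closureQuotEquiv e (S := link E₀ d ∩ link E₀ c)
      (T := link (e '' E₀) (e d) ∩ link (e '' E₀) (e c)) (by
        rw [Set.image_inter e.injective, image_link, image_link])
    haveI hN' : N.Normal := hN
    haveI hM : (N.map k.symm.toMonoidHom).Normal := hN'.map _ k.symm.surjective
    refine ⟨N.map k.symm.toMonoidHom, hM, ⟨(N.equivMapOfInjective _ k.symm.injective).symm.trans g⟩,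
      ⟨(QuotientGroup.congr (N.map k.symm.toMonoidHom) N k ?_).trans p⟩⟩
    ext x
    simp only [Subgroup.mem_map]
    exact ⟨fun ⟨a, ⟨b, hb, hba⟩, hax⟩ => by
        subst hba hax
        exact (k.apply_symm_apply b).symm ▸ hb,
      fun hx => ⟨k.symm x, ⟨x, hx, rfl⟩, k.apply_symm_apply x⟩⟩

/-- An isomorphic copy of the presented group with its class. -/
theorem type_of_iso {X : Type*} [Group X] [Finite X] (e : Cfsg.Spor.Fi24 ≃* X) :
    ∃ E : Set X, Cfsg.IsThreeTranspositionClass E ∧ Cfsg.IsOfTypeM24 X E :=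
  ⟨e '' CfsgLib.Fi24P.ThreeT.transp24,
    CfsgLib.LargeFischer.Outer.class_of_equiv e CfsgLib.Fi24P.ThreeT.transp24_class,
    isOfTypeM24_equiv e CfsgLib.Fi24P.ThreeT.type24⟩

end CfsgLib.LargeFischer.Ext
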