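import Cfsg.Agent.Lib.LargeFischer.Ext.Defs
import Cfsg.Agent.Lib.ThreeTransp.M24Quad.Structure
import Cfsg.Agent.Lib.RankOneSetup.Basic
import Cfsg.Prelude.Def_MonsterType

/-!
# A homomorphism from the presented group extending the model is an isomorphism
-/

set_option autoImplicit false
set_option maxRecDepth 100000
set_option maxHeartbeats 1000000
set_option linter.style.haveILetI false
set_option linter.unusedSectionVars false

namespace CfsgLib.LargeFischer.Ext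

open CfsgLib.PresCert CfsgLib.Fi24P CfsgLib.Fi24P.ThreeT Subgroup
open CfsgLib.ThreeTransp (link)
open scoped commutatorElement

attribute [local irreducible] relShort Fi23P.relShort Fi23P.levels Fi23P.wordA Fi23P.baseL

/-- The order of a group of the shape `2^{1+12}.3.U4(3).2`. -/
theorem shape_card {C : Type*} [Group C] {N M : Subgroup C} [N.Normal] (hNM : N ≤ M)
    (hN : Nat.card N = 3 * 2 ^ 13) {K : Type} [Field K] [Fintype K] (hK : Fintype.card K = 9)
    (e : Nonempty (↥M ⧸ N.subgroupOf M ≃* Cfsg.PSU 4 K 3)) (hM : M.index = 2) :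
    Nat.card C = 2 * (3 * 2 ^ 13 * 3265920) := by
  obtain ⟨e⟩ := e
  have h := (N.subgroupOf M).card_mul_index
  rw [Subgroup.index_eq_card, Nat.card_congr e.toEquiv, CfsgLib.M24Quad.card_psu hK,
    Nat.card_congr (Subgroup.subgroupOfEquivOfLe hNM).toEquiv, hN] at h
  have h2 := M.card_mul_index
  rw [hM] at h2
  omega

theorem sign_of_mem {x : Cfsg.Spor.Fi24} (hx : x ∈ transp24) : Fi24P.signHom x = -1 := by
  obtain ⟨m, rfl⟩ := isConj_iff.1 (show IsConj eltL x from hx)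
  rw [map_mul, map_mul, map_inv, show Fi24P.signHom eltL = -1 from signHom_gen 0]
  rw [mul_comm (Fi24P.signHom m), mul_assoc, mul_inv_cancel, mul_one]

variable {X : Type*} [Group X] [Finite X] {G₀ : Subgroup X} {z : ↥G₀}

/-- The homomorphism is bijective. -/
theorem Model.bijective (L : Model G₀ z) (Q : Subgroup (centralizer ({z} : Set ↥G₀))) [Q.Normal]
    (hF : Cfsg.IsOfLargeFischerTypeAt z Q)
    (hnot : ∀ g ∈ G₀, g * (L.d * L.φ (genH 11)) * g⁻¹ ≠ (z : X))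
    (Φ : Cfsg.Spor.Fi24 →* X) (hΦ : ∀ m : ↥Fi24P.subgH, Φ m = L.φ m) : Function.Bijective Φ := by
  classical
  haveI := finite24
  haveI := com_simple
  haveI hG : G₀.Normal := Subgroup.normal_of_index_eq_two L.idx
  have hd : Φ eltL = L.d := (hΦ ⟨eltL, eltL_mem⟩).trans L.map_l
  have hdG : L.d ∉ G₀ := fun h => by
    rw [← L.map_l, L.parity, show Fi24P.signHom eltL = -1 from signHom_gen 0] at h
    exact absurd h (by decide)
  -- parity
  have hcom : ∀ x ∈ comG, Φ x ∈ G₀ := fun x hx => by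
    have h1 : Φ x ∈ comG.map Φ := ⟨x, hx, rfl⟩
    rw [show comG = ⁅(⊤ : Subgroup Cfsg.Spor.Fi24), ⊤⁆ from _root_.commutator_def _, Subgroup.map_commutator] at h1
    refine (Subgroup.commutator_le.2 ?_) h1
    intro a _ b _
    rw [commutatorElement_def]
    by_cases ha : a ∈ G₀ <;> by_cases hb : b ∈ G₀ <;>
      simp [Subgroup.mul_mem_iff_of_index_two L.idx, ha, hb]
  have hpar : ∀ x, Φ x ∈ G₀ ↔ Fi24P.signHom x = 1 := fun x => by
    refine ⟨fun h => ?_, fun h => hcom x (mem_com h)⟩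
    rcases Int.units_eq_one_or (Fi24P.signHom x) with e | e
    · exact e
    · have h' := hcom (x * eltL) (mem_com (by rw [map_mul, e, show Fi24P.signHom eltL = -1 from signHom_gen 0]; decide))
      rw [map_mul, hd] at h'
      exact absurd ((Subgroup.mul_mem_cancel_left _ h).1 h') hdG
  -- injectivity
  have hinj : Function.Injective Φ := by
    rw [← MonoidHom.ker_eq_bot_iff, eq_bot_iff]
    have hK : Φ.ker.subgroupOf comG = ⊥ := by
      refine (Subgroup.Normal.eq_bot_or_eq_top inferInstance).resolve_right fun h => ?_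
      have hp : psi (Fi23P.fiGen 0) ∈ Φ.ker :=
        Subgroup.mem_subgroupOf.1 (h ▸ Subgroup.mem_top (⟨_, mem_com (psi_sign (Fi23P.fiGen 0))⟩ : ↥comG))
      rw [MonoidHom.mem_ker, hΦ ⟨_, psi_mem _⟩] at hp
      have h1 : psi (Fi23P.fiGen 0) = 1 := congrArg Subtype.val (L.inj (hp.trans (map_one L.φ).symm))
      exact psi_zero_moves (by rw [h1, one_smul])
    intro k hk
    rw [← center24, Subgroup.mem_center_iff]
    intro g
    have h1 : (⟨⁅k, g⁆, Subgroup.commutator_mem_commutator (Subgroup.mem_top _) (Subgroup.mem_top _)⟩ : ↥comG) ∈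
        Φ.ker.subgroupOf comG := by
      rw [Subgroup.mem_subgroupOf, MonoidHom.mem_ker]
      show Φ ⁅k, g⁆ = 1
      rw [map_commutatorElement, MonoidHom.mem_ker.1 hk, commutatorElement_one_left]
    rw [hK, Subgroup.mem_bot] at h1
    exact (commutatorElement_eq_one_iff_mul_comm.1 (congrArg Subtype.val h1)).symm
  refine ⟨hinj, MonoidHom.range_eq_top.1 ?_⟩
  set R := Φ.range
  have hCd : ∀ x, Commute x L.d → x ∈ R := fun x hx => by
    obtain ⟨m, rfl⟩ := (L.range_eq ▸ mem_centralizer_singleton_iff.2 hx.eq : x ∈ L.φ.range)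
    exact ⟨m, hΦ m⟩
  have hdR : L.d ∈ R := ⟨eltL, hd⟩
  set i₀ := ftGen 11
  have e11 : Φ i₀ = L.φ (genH 11) := by
    rw [← hΦ, genH_coe (by norm_num) (by norm_num)]
  set t := L.d * L.φ (genH 11) with ht
  have htΦ : Φ (eltL * i₀) = t := by rw [map_mul, hd, e11]
  have htG : t ∈ G₀ := by
    rw [← htΦ, hpar, map_mul, show Fi24P.signHom eltL = -1 from signHom_gen 0, signHom_gen]
    decide
  have hCt : ∀ g ∈ G₀, Commute g t → g ∈ R := by
    intro g hg hgt
    rcases L.swap g hg hgt.eq with h | h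
    · exact hCd g (mul_inv_eq_iff_eq_mul.1 h)
    · obtain ⟨s', hs'⟩ := isConj_iff.1 (gen_conj (g := 11) (by norm_num))
      have e : Φ s' * L.d * (Φ s')⁻¹ = g * L.d * g⁻¹ := by
        rw [h, ← hd, ← map_inv, ← map_mul, ← map_mul, hs', e11]
      have hc : Commute ((Φ s')⁻¹ * g) L.d := by
        refine mul_inv_eq_iff_eq_mul.1 ?_
        calc (Φ s')⁻¹ * g * L.d * ((Φ s')⁻¹ * g)⁻¹ = (Φ s')⁻¹ * (g * L.d * g⁻¹) * Φ s' := by group
          _ = L.d := by rw [← e]; group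
      have := mul_mem (show Φ s' ∈ R from ⟨s', rfl⟩) (hCd _ hc)
      rwa [mul_inv_cancel_left] at this
  -- the quadruple
  obtain ⟨a, b, c, hqH, ha, hb, hc, hab, hac, hbc, cab, cac, cbc, g₀, hg₀, hgz⟩ := L.quad
  set Z := a * b * c * eltL with hZdef
  set zz := Φ Z with hzz
  have hgz' : g₀ * zz * g₀⁻¹ = (z : X) := by rw [hzz, hΦ ⟨Z, hqH⟩]; exact hgz
  have hzG : zz ∈ G₀ := by
    have h := G₀.mul_mem (G₀.mul_mem (G₀.inv_mem hg₀) z.2) hg₀
    rwa [← hgz', show g₀⁻¹ * (g₀ * zz * g₀⁻¹) * g₀ = zz by group] at h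
  have hel : eltL ∈ transp24 := mem_conjugatesOf_self
  have U : CfsgLib.M24.Quad transp24 a b c eltL :=
    ⟨⟨ha.1, hb.1, hc.1, hab, hac, hbc, cab, cac, cbc⟩,
      ⟨⟨hel, ha.2.1.symm, ha.2.2.symm⟩, hel, hb.2.1.symm, hb.2.2.symm⟩, hel, hc.2.1.symm, hc.2.2.symm⟩
  have htz : ∀ g ∈ G₀, g * t * g⁻¹ ≠ zz := fun g hg e => hnot (g₀ * g) (G₀.mul_mem hg₀ hg) (by
    rw [← hgz', ← e]; group)
  have hCz : ∀ g ∈ G₀, Commute g zz → g ∈ R := by
    set C := Fi24P.signHom.ker ⊓ CfsgLib.M24Quad.CZ Z with hC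
    obtain ⟨Q', -, -, -, hQ', N', M', nN', -, -, hNM', hcN', ⟨K', iK, iK', hK', e'⟩, hM'⟩ :=
      CfsgLib.M24Quad.centralizer_structure setup24 ⟨a, b, c, eltL, U, rfl⟩ (fun x hx => sign_of_mem hx) C hC
    haveI := nN'
    have h24 := shape_card hNM' (by rw [hcN', hQ']) hK' e' hM'
    obtain ⟨⟨-, -, -, hQc, -⟩, N, M, nN, -, -, hNM, hcN, ⟨K, jK, jK', hK, e⟩, hM⟩ := hF
    haveI := nN
    have hX := shape_card hNM (by rw [hcN, hQc]) hK e hM
    set g₁ : ↥G₀ := ⟨g₀, hg₀⟩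
    set z₁ : ↥G₀ := ⟨zz, hzG⟩
    have hconj : g₁ * z₁ * g₁⁻¹ = z := Subtype.ext hgz'
    let T : ↥(centralizer ({z₁} : Set ↥G₀)) ≃ ↥(centralizer ({z} : Set ↥G₀)) :=
      ((MulAut.conj g₁).toEquiv.subtypeEquiv fun w => by
        rw [mem_centralizer_singleton_iff, mem_centralizer_singleton_iff, ← hconj]
        show _ ↔ g₁ * w * g₁⁻¹ * (g₁ * z₁ * g₁⁻¹) = g₁ * z₁ * g₁⁻¹ * (g₁ * w * g₁⁻¹)
        rw [show g₁ * w * g₁⁻¹ * (g₁ * z₁ * g₁⁻¹) = g₁ * (w * z₁) * g₁⁻¹ by group,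
          show g₁ * z₁ * g₁⁻¹ * (g₁ * w * g₁⁻¹) = g₁ * (z₁ * w) * g₁⁻¹ by group, mul_left_inj, mul_right_inj])
    let f : ↥C → ↥(centralizer ({z₁} : Set ↥G₀)) := fun m =>
      ⟨⟨Φ m, (hpar _).2 (MonoidHom.mem_ker.1 m.2.1)⟩, mem_centralizer_singleton_iff.2 (Subtype.ext (by
        show Φ m * Φ Z = Φ Z * Φ m
        rw [← map_mul, ← map_mul, mem_centralizer_singleton_iff.1 m.2.2]))⟩
    have hf : Function.Injective f := fun m n h => Subtype.ext (hinj (congrArg (fun w : ↥(centralizer ({z₁} : Set ↥G₀)) => ((w : ↥G₀) : X)) h))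
    have hbij := (Nat.bijective_iff_injective_and_card f).2 ⟨hf, by rw [h24, Nat.card_congr T, hX]⟩
    intro g hg hgc
    obtain ⟨m, hm⟩ := hbij.2 ⟨⟨g, hg⟩, mem_centralizer_singleton_iff.2 (Subtype.ext hgc.eq)⟩
    exact ⟨m, congrArg (fun w : ↥(centralizer ({z₁} : Set ↥G₀)) => ((w : ↥G₀) : X)) hm⟩
  -- the involutions in the image and in `G₀`
  have even : ∀ {v : Cfsg.Spor.Fi24}, Commute eltL v → ∀ k : Cfsg.Spor.Fi24, ∃ k', Fi24P.signHom k' = 1 ∧
      k' * v * k'⁻¹ = k * v * k⁻¹ := by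
    intro v hv k
    rcases Int.units_eq_one_or (Fi24P.signHom k) with h | h
    · exact ⟨k, h, rfl⟩
    · refine ⟨k * eltL, by rw [map_mul, h, show Fi24P.signHom eltL = -1 from signHom_gen 0]; decide, ?_⟩
      calc k * eltL * v * (k * eltL)⁻¹ = k * (eltL * v * eltL⁻¹) * k⁻¹ := by group
        _ = _ := by rw [hv.eq, mul_inv_cancel_right]
  have hli : Commute eltL i₀ := eltL_comm (by norm_num) (by norm_num)
  have hlZ : Commute eltL Z := subgH_commute hqH
  have cases_inv : ∀ x, x ∈ R → x ∈ G₀ → orderOf x = 2 →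
      (∃ g ∈ R, g ∈ G₀ ∧ g * t * g⁻¹ = x) ∨ ∃ g ∈ R, g ∈ G₀ ∧ g * zz * g⁻¹ = x := by
    rintro _ ⟨v, rfl⟩ hG hord
    have hv : orderOf v = 2 := by rwa [orderOf_injective Φ hinj] at hord
    have hs : Fi24P.signHom v = 1 := (hpar v).1 hG
    rcases CfsgLib.M24.invol_cases setup24 hv with h | ⟨p, q, hp, hq, hpq⟩ | ⟨p, q, r, T, hpqr⟩ |
        ⟨p, q, r, w, W, hw⟩
    · rw [sign_of_mem h] at hs; exact absurd hs (by decide)
    · obtain ⟨k, hk⟩ := isConj_iff.1 (CfsgLib.M24.pair_conj setup24 hel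
        (show i₀ ∈ link transp24 eltL from ⟨gen_mem (by norm_num), fun e => k_not_commute
          ((show Commute (ftGen 11) (ftGen 1) from (gen_comm (g := 1) (h := 11) (by decide)).symm) |> fun h => e ▸ h), hli⟩)
        hp hq)
      obtain ⟨k', hk', e'⟩ := even ((Commute.refl eltL).mul_right hli) k
      refine .inl ⟨Φ k', ⟨k', rfl⟩, (hpar _).2 hk', ?_⟩
      rw [← htΦ, ← map_inv, ← map_mul, ← map_mul, e', hk, hpq]
    · rw [← hpqr, map_mul, map_mul, sign_of_mem T.ha, sign_of_mem T.hb, sign_of_mem T.hc] at hs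
      exact absurd hs (by decide)
    · obtain ⟨k, k1, k2, k3, k4⟩ := CfsgLib.M24.quad_conj setup24 U W
      obtain ⟨k', hk', e'⟩ := even hlZ k
      refine .inr ⟨Φ k', ⟨k', rfl⟩, (hpar _).2 hk', ?_⟩
      rw [hzz, ← map_inv, ← map_mul, ← map_mul, e', ← hw, ← k1, ← k2, ← k3, ← k4, hZdef]
      exact congrArg Φ (by group)
  have hzR : zz ∈ R := ⟨Z, rfl⟩
  have cent : ∀ {g u v : X}, g ∈ R → g ∈ G₀ → (∀ h ∈ G₀, Commute h u → h ∈ R) → g * u * g⁻¹ = v →
      ∀ h ∈ G₀, Commute h v → h ∈ R := by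
    intro g u v hg hgG hu e h hh hc
    have h1 : g⁻¹ * h * g ∈ R := hu _ (G₀.mul_mem (G₀.mul_mem (G₀.inv_mem hgG) hh) hgG) (by
      have := (Commute.conj_iff g⁻¹).2 hc
      rw [← e] at this
      simpa [mul_assoc] using this)
    have := mul_mem (mul_mem hg h1) (inv_mem hg)
    rwa [show g * (g⁻¹ * h * g) * g⁻¹ = h by group] at this
  have hG0R : G₀ ≤ R := by
    intro g hg
    set y := g * t * g⁻¹ with hy
    have hyG : y ∈ G₀ := G₀.mul_mem (G₀.mul_mem hg htG) (G₀.inv_mem hg)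
    have ht2 : orderOf t = 2 := by
      rw [← htΦ, orderOf_injective Φ hinj]
      refine orderOf_eq_prime ?_ fun e => ?_
      · rw [hli.mul_pow, pow_two, pow_two, eltL_sq, one_mul]
        exact ftGen_sq 11 (by norm_num)
      · have : i₀ = eltL := (inv_eq_of_mul_eq_one_right e).symm.trans (inv_eq_of_mul_eq_one_right eltL_sq)
        exact k_not_commute (this ▸ (gen_comm (g := 1) (h := 11) (by decide)).symm)
    have hy2 : orderOf y = 2 := by rw [hy, ← MulAut.conj_apply, MulEquiv.orderOf_eq, ht2]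
    have sq : ∀ {x : X}, orderOf x = 2 → x * x = 1 := fun {x} hx => by
      rw [← pow_two, ← hx, pow_orderOf_eq_one]
    have hZ2 : zz * zz = 1 := by rw [hzz, ← map_mul, hZdef, CfsgLib.M24.quad_sq setup24 U, map_one]
    have heven : Even (orderOf (y * zz)) := by
      by_contra ho
      obtain ⟨k, hk⟩ := CfsgLib.RankOneSetup.conj_of_odd_orderOf (sq hy2) hZ2 (Nat.not_even_iff_odd.1 ho)
      refine htz ((y * zz) ^ k * g) (G₀.mul_mem (G₀.pow_mem (G₀.mul_mem hyG hzG) k) hg) ?_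
      calc _ = (y * zz) ^ k * (g * t * g⁻¹) * ((y * zz) ^ k)⁻¹ := by group
        _ = zz := hk
    obtain ⟨⟨w, hwG⟩, hw1', hw2', hwy', hwz'⟩ := CfsgLib.RankOneSetup.exists_commute_of_even_orderOf
      (s := (⟨y, hyG⟩ : ↥G₀)) (u := ⟨zz, hzG⟩) (Subtype.ext (sq hy2)) (Subtype.ext hZ2)
      (by rwa [← Subgroup.orderOf_coe])
    have hw1 : w ≠ 1 := fun e => hw1' (Subtype.ext e)
    have hw2 : w * w = 1 := congrArg Subtype.val hw2'
    have hwy : Commute w y := congrArg Subtype.val hwy'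
    have hwz : Commute w zz := congrArg Subtype.val hwz'
    have hwR : w ∈ R := hCz w hwG hwz
    have hw : orderOf w = 2 := orderOf_eq_prime (by rw [pow_two]; exact hw2) hw1
    have hyR : y ∈ R := by
      rcases cases_inv w hwR hwG hw with ⟨g', hg', hgG, e⟩ | ⟨g', hg', hgG, e⟩
      · exact cent hg' hgG hCt e y hyG hwy.symm
      · exact cent hg' hgG hCz e y hyG hwy.symm
    rcases cases_inv y hyR hyG hy2 with ⟨g', hg', hgG, e⟩ | ⟨g', hg', hgG, e⟩
    · have h1 : g'⁻¹ * g ∈ R := hCt _ (G₀.mul_mem (G₀.inv_mem hgG) hg) (mul_inv_eq_iff_eq_mul.1 (by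
        calc g'⁻¹ * g * t * (g'⁻¹ * g)⁻¹ = g'⁻¹ * y * g' := by rw [hy]; group
          _ = t := by rw [← e]; group))
      have := mul_mem hg' h1
      rwa [mul_inv_cancel_left] at this
    · exact absurd (show g'⁻¹ * g * t * (g'⁻¹ * g)⁻¹ = zz by
        calc g'⁻¹ * g * t * (g'⁻¹ * g)⁻¹ = g'⁻¹ * y * g' := by rw [hy]; group
          _ = zz := by rw [← e]; group) (htz _ (G₀.mul_mem (G₀.inv_mem hgG) hg))
  refine (Subgroup.eq_top_iff' R).2 fun x => ?_
  by_cases hx : x ∈ G₀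
  · exact hG0R hx
  · have h1 := hG0R ((Subgroup.mul_mem_iff_of_index_two L.idx).2 (iff_of_false hx hdG) : x * L.d ∈ G₀)
    have := mul_mem h1 (inv_mem hdR)
    rwa [mul_inv_cancel_right] at this

end CfsgLib.LargeFischer.Ext
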