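import Cfsg.Agent.Lib.LargeFischer.Ext.Exists
import Cfsg.Agent.Lib.LargeFischer.Ext.Trace
import Cfsg.Agent.Lib.LargeFischer.Ext.Whole
import Cfsg.Agent.Lib.LargeFischer.Ext.TypeIso

/-!
# A group with a subgroup of index two of large Fischer type is the presented group `Fi24`
-/

set_option autoImplicit false
set_option maxRecDepth 100000
set_option linter.style.haveILetI false

namespace CfsgLib.LargeFischer.Ext

variable {X : Type*} [Group X] [Finite X]

theorem exists_iso {G₀ : Subgroup X} (hidx : G₀.index = 2) (z : ↥G₀)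
    (Q : Subgroup (Subgroup.centralizer ({z} : Set ↥G₀))) [Q.Normal] (hF : Cfsg.IsOfLargeFischerTypeAt z Q)
    (hFX : (Cfsg.generalizedFittingSubgroup ↥(Subgroup.centralizer ({(z : X)} : Set X))).map (Subgroup.subtype _) =
      ((Q.map (Subgroup.subtype _)).map G₀.subtype)) :
    Nonempty (Cfsg.Spor.Fi24 ≃* X) := by
  obtain ⟨S⟩ := exists_setting hidx z Q hF hFX (hcov_of z Q hF)
  obtain ⟨V, hV⟩ := S.exists_node
  obtain ⟨Φ, hΦ⟩ := Model.exists_hom hV
  refine ⟨MulEquiv.ofBijective Φ (S.toModel.bijective Q hF (fun g hg => ?_) Φ hΦ)⟩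
  rw [S.eleven, ← mul_assoc S.d S.d, S.d_sq, one_mul]
  exact S.not_z g hg

end CfsgLib.LargeFischer.Ext
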