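import Cfsg.Agent.Lib.LargeFischer.Ext.Defs
import Cfsg.Agent.Lib.LargeFischer.Ext.Core
import Cfsg.Agent.Lib.FischerPair.M23Frame.Iso
import Mathlib.GroupTheory.NoncommCoprod

/-!
# The centraliser of the outer involution carried over from the presented group
-/

set_option autoImplicit false
set_option maxRecDepth 100000
set_option linter.style.haveILetI false

namespace CfsgLib.LargeFischer.Ext

open CfsgLib.PresCert CfsgLib.Fi24P CfsgLib.Fi24P.ThreeT Subgroup
open CfsgLib.ThreeTransp (link)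

attribute [local irreducible] relShort Fi23P.relShort Fi23P.levels Fi23P.wordA Fi23P.baseL

variable {X : Type*} [Group X] [Finite X]

theorem refl_isConj (q : Fin Fi23P.tab.n) : IsConj Fi23P.eltT (Fi23P.Tri.refl q) :=
  isConj_iff.2 ⟨_, rfl⟩

theorem exists_refl {x : Cfsg.Spor.Fi23} (hx : IsConj Fi23P.eltT x) : ∃ q, Fi23P.Tri.refl q = x := by
  obtain ⟨g, rfl⟩ := isConj_iff.1 hx
  rw [← Fi23P.Tri.refl_origin, Fi23P.Tri.refl_conj]
  exact ⟨_, rfl⟩

theorem twelfth_link : ftGen 11 ∈ link transp24 eltL := by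
  refine ⟨gen_mem (by norm_num), fun h => k_not_commute ?_, eltL_comm (by norm_num) (by norm_num)⟩
  have h1 := gen_comm (g := 1) (h := 11) (by decide)
  rw [h] at h1
  exact (show Commute (ftGen 1) eltL from h1).symm

/-- The parity as an element of the whole group. -/
noncomputable def parHom {d : X} (hd : d * d = 1) : ℤˣ →* X where
  toFun u := if u = 1 then 1 else d
  map_one' := if_pos rfl
  map_mul' u v := by
    rcases Int.units_eq_one_or u with rfl | rfl <;> rcases Int.units_eq_one_or v with rfl | rfl <;> simp [hd]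

theorem exists_phi {G₀ : Subgroup X} (hidx : G₀.index = 2) {d : X} (hd : d * d = 1) (hdG : d ∉ G₀)
    (t : ↥(G₀ ⊓ centralizer ({d} : Set X))) (S : CfsgLib.M23.Setup (conjugatesOf t)) :
    ∃ φ : ↥Fi24P.subgH →* X, Function.Injective φ ∧ φ.range = centralizer ({d} : Set X) ∧
      φ ⟨eltL, eltL_mem⟩ = d ∧ (∀ m : ↥Fi24P.subgH, φ m ∈ G₀ ↔ signHom (m : Cfsg.Spor.Fi24) = 1) ∧
      φ (genH 11) = d * (t : X) ∧
      ∀ y : ↥(G₀ ⊓ centralizer ({d} : Set X)), IsConj t y →
        ∃ q, φ ⟨refl24 q, refl24_subgH q⟩ = d * (y : X) := by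
  classical
  obtain ⟨e₀, he₀⟩ := CfsgLib.M23.exists_fi23_iso S
  have ha : IsConj Fi23P.eltT (PresentedGroup.of Cfsg.Spor.Fi23.Gen.a) := by
    have h := Fi23P.Tri.gen_zero ▸ refl_isConj _
    exact h
  obtain ⟨q₁, hq₁⟩ := (link_eltL ▸ twelfth_link : ftGen 11 ∈ Set.range refl24)
  have hg11 : piL (genH 11) = Fi23P.Tri.refl q₁ := by
    rw [show genH 11 = (⟨refl24 q₁, refl24_subgH q₁⟩ : ↥Fi24P.subgH) from
      Subtype.ext ((genH_coe (by norm_num) (by norm_num)).trans hq₁.symm), piL_refl24]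
  obtain ⟨g, hg⟩ := isConj_iff.1 (show IsConj (e₀ (Fi23P.Tri.refl q₁)) t from by
    have h1 : e₀ (Fi23P.Tri.refl q₁) ∈ conjugatesOf t :=
      he₀.le ⟨_, ha.symm.trans (refl_isConj q₁), rfl⟩
    exact IsConj.symm h1)
  let e : Cfsg.Spor.Fi23 ≃* ↥(G₀ ⊓ centralizer ({d} : Set X)) := e₀.trans (MulAut.conj g)
  have het : e (Fi23P.Tri.refl q₁) = t := hg
  have hconj : ∀ y : ↥(G₀ ⊓ centralizer ({d} : Set X)), IsConj t y → ∃ q, e (Fi23P.Tri.refl q) = y := fun y hy => by
    obtain ⟨x, rfl⟩ := e.surjective y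
    rw [← het] at hy
    have h := MonoidHom.map_isConj e.symm.toMonoidHom hy
    rw [MulEquiv.coe_toMonoidHom, e.symm_apply_apply, e.symm_apply_apply] at h
    obtain ⟨q, rfl⟩ := exists_refl ((refl_isConj q₁).trans h)
    exact ⟨q, rfl⟩
  let f : ↥Fi24P.subgH →* X := ((G₀ ⊓ centralizer ({d} : Set X)).subtype.comp e.toMonoidHom).comp piL
  let p : ↥Fi24P.subgH →* X := (parHom hd).comp (signHom.comp (Subgroup.subtype _))
  have hcomm : ∀ m n, Commute (f m) (p n) := fun m n => by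
    show Commute ((e (piL m) : ↥(G₀ ⊓ centralizer ({d} : Set X))) : X) (parHom hd (signHom (n : Cfsg.Spor.Fi24)))
    rcases Int.units_eq_one_or (signHom (n : Cfsg.Spor.Fi24)) with h | h <;> rw [h]
    · rw [map_one]; exact Commute.one_right _
    · show Commute _ (if (-1 : ℤˣ) = 1 then 1 else d)
      rw [if_neg (by decide)]
      exact mem_centralizer_singleton_iff.1 (e (piL m)).2.2
  let φ : ↥Fi24P.subgH →* X := MonoidHom.mk' (fun m => f m * p m) fun m n => by
    rw [map_mul, map_mul, mul_assoc (f m) (f n), ← mul_assoc (f n), (hcomm n m).eq]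
    simp only [mul_assoc]
  have hp : ∀ m : ↥Fi24P.subgH, (signHom (m : Cfsg.Spor.Fi24) = 1 ∧ φ m = (e (piL m) : X)) ∨
      (signHom (m : Cfsg.Spor.Fi24) = -1 ∧ φ m = (e (piL m) : X) * d) := fun m => by
    have e' : φ m = (e (piL m) : X) * parHom hd (signHom (m : Cfsg.Spor.Fi24)) := rfl
    rcases Int.units_eq_one_or (signHom (m : Cfsg.Spor.Fi24)) with h | h
    · exact .inl ⟨h, by rw [e', h, map_one, mul_one]⟩
    · refine .inr ⟨h, ?_⟩
      rw [e', h]
      show _ * (if (-1 : ℤˣ) = 1 then 1 else d) = _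
      rw [if_neg (by decide)]
  have hout : ∀ y : ↥(G₀ ⊓ centralizer ({d} : Set X)), (y : X) * d ∉ G₀ := fun y h => hdG (by
    have := G₀.mul_mem (G₀.inv_mem y.2.1) h
    rwa [inv_mul_cancel_left] at this)
  have hpar : ∀ m : ↥Fi24P.subgH, φ m ∈ G₀ ↔ signHom (m : Cfsg.Spor.Fi24) = 1 := fun m => by
    rcases hp m with ⟨h, e'⟩ | ⟨h, e'⟩ <;> rw [e', h]
    · exact iff_of_true (e (piL m)).2.1 rfl
    · exact iff_of_false (hout _) (by decide)
  have hd' : d ∈ centralizer ({d} : Set X) := mem_centralizer_singleton_iff.2 rfl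
  have hrefl : ∀ q, φ ⟨refl24 q, refl24_subgH q⟩ = d * (e (Fi23P.Tri.refl q) : X) := fun q => by
    rcases hp ⟨refl24 q, refl24_subgH q⟩ with ⟨h, -⟩ | ⟨-, e'⟩
    · refine absurd h ?_
      show ¬ signHom (psi (Fi23P.Tri.refl q) * eltL) = 1
      rw [map_mul, psi_sign, show signHom eltL = -1 from signHom_gen 0, one_mul]
      decide
    · rw [e', piL_refl24]
      exact mem_centralizer_singleton_iff.1 (e (Fi23P.Tri.refl q)).2.2
  refine ⟨φ, ?_, ?_, ?_, hpar, ?_, fun y hy => ?_⟩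
  · rw [← MonoidHom.ker_eq_bot_iff, eq_bot_iff]
    intro m hm
    rw [MonoidHom.mem_ker] at hm
    rcases hp m with ⟨h, e'⟩ | ⟨-, e'⟩
    · rw [hm] at e'
      have h1 : piL m = 1 := e.injective (by rw [map_one]; exact Subtype.ext e'.symm)
      rcases piL_eq_one.1 h1 with h2 | h2
      · exact Subgroup.mem_bot.2 (Subtype.ext h2)
      · rw [h2, show signHom eltL = -1 from signHom_gen 0] at h
        exact absurd h (by decide)
    · exact absurd (hm ▸ G₀.one_mem : φ m ∈ G₀) (e' ▸ hout _)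
  · refine le_antisymm ?_ fun x hx => ?_
    · rintro _ ⟨m, rfl⟩
      rcases hp m with ⟨-, e'⟩ | ⟨-, e'⟩ <;> rw [e']
      · exact (e (piL m)).2.2
      · exact Subgroup.mul_mem _ (e (piL m)).2.2 hd'
    · obtain ⟨k, hk⟩ : ∃ k : ↥(G₀ ⊓ centralizer ({d} : Set X)), (k : X) = x ∨ (k : X) * d = x := by
        by_cases h : x ∈ G₀
        · exact ⟨⟨x, h, hx⟩, .inl rfl⟩
        · refine ⟨⟨x * d, (Subgroup.mul_mem_iff_of_index_two hidx).2 (iff_of_false h hdG),
            Subgroup.mul_mem _ hx hd'⟩, .inr ?_⟩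
          show x * d * d = x
          rw [mul_assoc, hd, mul_one]
      obtain ⟨m, hm⟩ := piL_surjective (e.symm k)
      have hm' : (e (piL m) : X) = (k : X) := by rw [hm, e.apply_symm_apply]
      have hl : φ ⟨eltL, eltL_mem⟩ = d := by
        rcases hp ⟨eltL, eltL_mem⟩ with ⟨h, -⟩ | ⟨-, e'⟩
        · rw [show signHom eltL = -1 from signHom_gen 0] at h
          exact absurd h (by decide)
        · rw [e', piL_eq_one.2 (.inr rfl), map_one, Subgroup.coe_one, one_mul]
      rcases hp m with ⟨-, e'⟩ | ⟨-, e'⟩ <;> rcases hk with hk | hk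
      · exact ⟨m, by rw [e', hm', hk]⟩
      · exact ⟨m * ⟨eltL, eltL_mem⟩, by rw [map_mul, e', hl, hm', hk]⟩
      · exact ⟨m * ⟨eltL, eltL_mem⟩, by rw [map_mul, e', hl, mul_assoc, hd, mul_one, hm', hk]⟩
      · exact ⟨m, by rw [e', hm', hk]⟩
  · rcases hp ⟨eltL, eltL_mem⟩ with ⟨h, -⟩ | ⟨-, e'⟩
    · rw [show signHom eltL = -1 from signHom_gen 0] at h
      exact absurd h (by decide)
    · rw [e', piL_eq_one.2 (.inr rfl), map_one, Subgroup.coe_one, one_mul]
  · have h1 : genH 11 = (⟨refl24 q₁, refl24_subgH q₁⟩ : ↥Fi24P.subgH) :=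
      Subtype.ext ((genH_coe (by norm_num) (by norm_num)).trans hq₁.symm)
    rw [h1, hrefl, het]
  · obtain ⟨q, rfl⟩ := hconj y hy
    exact ⟨q, hrefl q⟩

end CfsgLib.LargeFischer.Ext
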