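import Cfsg.Agent.Lib.LargeFischer.Ext.PairFix
import Cfsg.Agent.Lib.LargeFischer.Ext.OrthStab
import Cfsg.Agent.Lib.ThreeTransp.M24Glue.Lemmas
import Cfsg.Agent.Lib.Fi24P.Triple.WitData
import Cfsg.Agent.Lib.Fi23P.MultLift

/-!
# The image of the second generator
-/

set_option autoImplicit false
set_option maxRecDepth 100000
set_option maxHeartbeats 1000000
set_option linter.style.haveILetI false
set_option linter.unusedSectionVars false

namespace CfsgLib.LargeFischer.Ext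

open CfsgLib.PresCert CfsgLib.Fi24P CfsgLib.Fi24P.ThreeT Subgroup
open CfsgLib.ThreeTransp (link)
open CfsgLib.FischerPair (common)

attribute [local irreducible] relShort Fi23P.relShort Fi23P.levels Fi23P.wordA Fi23P.baseL

/-- The words of the twisting element. -/
theorem tri_wit : sameElt (List.replicate 3 (wordTri ++ [3])).flatten Fi24P.Triple.witCube = true ∧
    kLetters Fi24P.Triple.witCube = true := by
  decide +kernel

theorem carry {G : Type*} [Group G] {a b : G} (ha : a * a = 1) (hb : b * b = 1)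
    (h : a * b * a = b * a * b) : a * b * a * (a * b)⁻¹ = b := by
  rw [mul_inv_rev, inv_eq_of_mul_eq_one_right ha, inv_eq_of_mul_eq_one_right hb, h]
  simp only [mul_assoc]
  rw [← mul_assoc b b, hb, one_mul, ha, mul_one]

theorem twelfth_commute_k : Commute (ftGen 11) (ftGen 1) := (gen_comm (g := 1) (h := 11) (by decide)).symm

theorem node_commute {g h : ℕ} (hg : g < 12) (g1 : g ≠ 1) (hh : h < 12) (h1 : h ≠ 1)
    (hm : (g, h) ∈ commList) : Commute (genH g) (genH h) := Subtype.ext (by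
  simp only [Subgroup.coe_mul, genH_coe hg g1, genH_coe hh h1]
  exact gen_comm hm)

/-- The product carrying `i` to `f`. -/
noncomputable def toF : ↥Fi24P.subgH :=
  genH 6 * genH 7 * (genH 5 * genH 6) * (genH 10 * genH 5) * (genH 11 * genH 10)

/-- The product carrying `f` to `j`. -/
noncomputable def toJ : ↥Fi24P.subgH := genH 8 * genH 9 * (genH 7 * genH 8)

theorem toF_facts : (toF : Cfsg.Spor.Fi24) * ftGen 11 * (toF : Cfsg.Spor.Fi24)⁻¹ = ftGen 7 ∧
    Commute (toF : Cfsg.Spor.Fi24) (ftGen 1) ∧ Commute (toF : Cfsg.Spor.Fi24) (ftGen 9) := by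
  have e : (toF : Cfsg.Spor.Fi24) =
      ftGen 6 * ftGen 7 * (ftGen 5 * ftGen 6) * (ftGen 10 * ftGen 5) * (ftGen 11 * ftGen 10) := by
    simp only [toF, Subgroup.coe_mul, genH_coe (show 6 < 12 by norm_num) (by norm_num),
      genH_coe (show 7 < 12 by norm_num) (by norm_num), genH_coe (show 5 < 12 by norm_num) (by norm_num),
      genH_coe (show 10 < 12 by norm_num) (by norm_num), genH_coe (show 11 < 12 by norm_num) (by norm_num)]
  have c : ∀ {g h : ℕ}, (g, h) ∈ commList ∨ (h, g) ∈ commList → Commute (ftGen g) (ftGen h) := fun h => by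
    rcases h with h | h
    exacts [gen_comm h, (gen_comm h).symm]
  have cr : ∀ {a b : ℕ}, a < 12 → b < 12 → ((a, b) ∈ braidList ∨ (b, a) ∈ braidList) →
      ftGen a * ftGen b * ftGen a * (ftGen a * ftGen b)⁻¹ = ftGen b := fun ha hb h => by
    refine carry (ftGen_sq _ ha) (ftGen_sq _ hb) ?_
    rcases h with h | h
    exacts [gen_braid h, (gen_braid h).symm]
  refine ⟨?_, ?_, ?_⟩ <;> rw [e]
  · have s1 := cr (a := 11) (b := 10) (by norm_num) (by norm_num) (by decide)
    have s2 := cr (a := 10) (b := 5) (by norm_num) (by norm_num) (by decide)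
    have s3 := cr (a := 5) (b := 6) (by norm_num) (by norm_num) (by decide)
    have s4 := cr (a := 6) (b := 7) (by norm_num) (by norm_num) (by decide)
    calc _ = ftGen 6 * ftGen 7 * (ftGen 5 * ftGen 6 * (ftGen 10 * ftGen 5 *
            (ftGen 11 * ftGen 10 * ftGen 11 * (ftGen 11 * ftGen 10)⁻¹) * (ftGen 10 * ftGen 5)⁻¹) *
            (ftGen 5 * ftGen 6)⁻¹) * (ftGen 6 * ftGen 7)⁻¹ := by group
      _ = ftGen 7 := by rw [s1, s2, s3, s4]
  · exact ((((c (by decide)).mul_left (c (by decide))).mul_left ((c (by decide)).mul_left (c (by decide)))).mul_left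
      ((c (by decide)).mul_left (c (by decide)))).mul_left ((c (by decide)).mul_left (c (by decide)))
  · exact ((((c (by decide)).mul_left (c (by decide))).mul_left ((c (by decide)).mul_left (c (by decide)))).mul_left
      ((c (by decide)).mul_left (c (by decide)))).mul_left ((c (by decide)).mul_left (c (by decide)))

theorem toJ_facts : (toJ : Cfsg.Spor.Fi24) * ftGen 7 * (toJ : Cfsg.Spor.Fi24)⁻¹ = ftGen 9 ∧
    Commute (toJ : Cfsg.Spor.Fi24) (ftGen 1) ∧ Commute (toJ : Cfsg.Spor.Fi24) (ftGen 11) := by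
  have e : (toJ : Cfsg.Spor.Fi24) = ftGen 8 * ftGen 9 * (ftGen 7 * ftGen 8) := by
    simp only [toJ, Subgroup.coe_mul, genH_coe (show 8 < 12 by norm_num) (by norm_num),
      genH_coe (show 9 < 12 by norm_num) (by norm_num), genH_coe (show 7 < 12 by norm_num) (by norm_num)]
  have c : ∀ {g h : ℕ}, (g, h) ∈ commList ∨ (h, g) ∈ commList → Commute (ftGen g) (ftGen h) := fun h => by
    rcases h with h | h
    exacts [gen_comm h, (gen_comm h).symm]
  have s1 := carry (ftGen_sq 7 (by norm_num)) (ftGen_sq 8 (by norm_num)) (gen_braid (g := 7) (h := 8) (by decide))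
  have s2 := carry (ftGen_sq 8 (by norm_num)) (ftGen_sq 9 (by norm_num)) (gen_braid (g := 8) (h := 9) (by decide))
  refine ⟨?_, ?_, ?_⟩ <;> rw [e]
  · calc _ = ftGen 8 * ftGen 9 * (ftGen 7 * ftGen 8 * ftGen 7 * (ftGen 7 * ftGen 8)⁻¹) *
          (ftGen 8 * ftGen 9)⁻¹ := by group
      _ = ftGen 9 := by rw [s1, s2]
  · exact ((c (by decide)).mul_left (c (by decide))).mul_left ((c (by decide)).mul_left (c (by decide)))
  · exact ((c (by decide)).mul_left (c (by decide))).mul_left ((c (by decide)).mul_left (c (by decide)))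

variable {X : Type*} [Group X] {G₀ : Subgroup X} {z : ↥G₀}

namespace Setting

variable [Finite X] (L : Setting G₀ z)

theorem image_conj (q : Fin Fi23P.tab.n) : IsConj L.d (L.φ ⟨refl24 q, refl24_subgH q⟩) := by
  obtain ⟨y, hy, e⟩ := L.image q
  obtain ⟨h, rfl⟩ := isConj_iff.1 hy
  have hh : Commute (h : X) L.d := mem_centralizer_singleton_iff.1 h.2.2
  refine isConj_iff.2 ⟨(h : X) * L.s, ?_⟩
  calc (h : X) * L.s * L.d * ((h : X) * L.s)⁻¹ = (h : X) * (L.s * L.d * L.s⁻¹) * (h : X)⁻¹ := by group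
    _ = (h : X) * L.d * ((L.t : X) * (h : X)⁻¹) := by rw [L.s_conj.1]; group
    _ = _ := by rw [hh.eq, e]; simp only [Subgroup.coe_mul, Subgroup.coe_inv, mul_assoc]

theorem back_mem {n : Cfsg.Spor.Fi24} (hn : Commute n (ftGen 11)) : L.s'⁻¹ * n * L.s' ∈ Fi24P.subgH := by
  rw [← centralizer_eltL, mem_centralizer_singleton_iff]
  have h := (Commute.conj_iff L.s'⁻¹).2 hn
  rw [show L.s'⁻¹ * ftGen 11 * L.s'⁻¹⁻¹ = eltL by rw [← L.s'_l]; group, inv_inv] at h
  exact h.eq

/-- The model at the twelfth generator. -/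
noncomputable def rho : ↥(centralizer ({ftGen 11} : Set Cfsg.Spor.Fi24)) →* X :=
  MonoidHom.mk' (fun n => L.s * L.φ ⟨_, L.back_mem (mem_centralizer_singleton_iff.1 n.2)⟩ * L.s⁻¹) fun a b => by
    rw [show (⟨_, L.back_mem (mem_centralizer_singleton_iff.1 (a * b).2)⟩ : ↥Fi24P.subgH) =
        ⟨_, L.back_mem (mem_centralizer_singleton_iff.1 a.2)⟩ * ⟨_, L.back_mem (mem_centralizer_singleton_iff.1 b.2)⟩
      from Subtype.ext (by simp only [Subgroup.coe_mul]; group), map_mul]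
    group

theorem rho_agree {m : ↥Fi24P.subgH} (h : (m : Cfsg.Spor.Fi24) ∈ centralizer ({ftGen 11} : Set Cfsg.Spor.Fi24)) :
    L.rho ⟨m, h⟩ = L.φ m := by
  have hm : Commute (m : Cfsg.Spor.Fi24) (ftGen 11) := mem_centralizer_singleton_iff.1 h
  set m' : ↥Fi24P.subgH := ⟨_, L.back_mem hm⟩ with hm'
  have hc : Commute (m' : Cfsg.Spor.Fi24) (ftGen 11) := by
    have h' := (Commute.conj_iff L.s'⁻¹).2 (subgH_commute m.2).symm
    rwa [show L.s'⁻¹ * eltL * L.s'⁻¹⁻¹ = ftGen 11 by rw [← L.s'_i]; group, inv_inv] at h'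
  have e : L.s' * (m' : Cfsg.Spor.Fi24) * L.s'⁻¹ = (m : Cfsg.Spor.Fi24) := by
    show L.s' * (L.s'⁻¹ * m * L.s') * L.s'⁻¹ = _
    group
  show L.s * L.φ m' * L.s⁻¹ = L.φ m
  rw [← L.compat m' hc (e ▸ m.2)]
  exact congrArg L.φ (Subtype.ext e)

theorem rho_injective : Function.Injective L.rho := fun a b h => by
  have h1 := congrArg Subtype.val (L.inj (mul_left_cancel (mul_right_cancel h)))
  exact Subtype.ext (mul_left_cancel (mul_right_cancel h1))

theorem rho_range {x : X} (hx : Commute x (L.φ (genH 11))) : ∃ n, L.rho n = x := by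
  have hx' : Commute (L.s⁻¹ * x * L.s) L.d := by
    have h := (Commute.conj_iff L.s⁻¹).2 hx
    rw [L.eleven, ← L.s_conj.1] at h
    simpa [mul_assoc] using h
  obtain ⟨m, hm⟩ := (L.range_eq ▸ mem_centralizer_singleton_iff.2 hx'.eq : L.s⁻¹ * x * L.s ∈ L.φ.range)
  refine ⟨⟨L.s' * m * L.s'⁻¹, mem_centralizer_singleton_iff.2 ?_⟩, ?_⟩
  · rw [← L.s'_l]; exact ((Commute.conj_iff L.s').2 (subgH_commute m.2).symm).eq
  · show L.s * L.φ _ * L.s⁻¹ = x
    rw [show (⟨L.s'⁻¹ * (L.s' * m * L.s'⁻¹) * L.s', _⟩ : ↥Fi24P.subgH) = m from Subtype.ext (by group), hm]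
    group

theorem l_mem : eltL ∈ centralizer ({ftGen 11} : Set Cfsg.Spor.Fi24) :=
  mem_centralizer_singleton_iff.2 twelfth_link.2.2.eq

theorem k_mem : ftGen 1 ∈ centralizer ({ftGen 11} : Set Cfsg.Spor.Fi24) :=
  mem_centralizer_singleton_iff.2 twelfth_commute_k.symm.eq

theorem rho_l : L.rho ⟨eltL, l_mem⟩ = L.d := (L.rho_agree (m := ⟨eltL, eltL_mem⟩) l_mem).trans L.map_l

/-- The image of the second generator. -/
noncomputable def V : X := L.rho ⟨ftGen 1, k_mem⟩

theorem V_comm {m : ↥Fi24P.subgH} (h1 : Commute (m : Cfsg.Spor.Fi24) (ftGen 11))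
    (h2 : Commute (m : Cfsg.Spor.Fi24) (ftGen 1)) : Commute (L.φ m) L.V := by
  rw [← L.rho_agree (mem_centralizer_singleton_iff.2 h1.eq)]
  exact Commute.map (Subtype.ext h2.eq) L.rho

theorem V_sq : L.V * L.V = 1 := by
  rw [V, ← map_mul, show (⟨ftGen 1, k_mem⟩ : ↥(centralizer ({ftGen 11} : Set Cfsg.Spor.Fi24))) * ⟨ftGen 1, k_mem⟩ = 1
    from Subtype.ext (ftGen_sq 1 (by norm_num)), map_one]

theorem braid_d : L.d * L.V * L.d = L.V * L.d * L.V := by
  rw [← L.rho_l, V, ← map_mul, ← map_mul, ← map_mul, ← map_mul]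
  exact congrArg L.rho (Subtype.ext (gen_braid (g := 0) (h := 1) (by decide)))

theorem braid_a : L.φ (genH 2) * L.V * L.φ (genH 2) = L.V * L.φ (genH 2) * L.V := by
  have e2 : (genH 2 : Cfsg.Spor.Fi24) = ftGen 2 := genH_coe (by norm_num) (by norm_num)
  have h2 : (genH 2 : Cfsg.Spor.Fi24) ∈ centralizer ({ftGen 11} : Set Cfsg.Spor.Fi24) :=
    mem_centralizer_singleton_iff.2 (e2 ▸ gen_comm (g := 2) (h := 11) (by decide))
  rw [← L.rho_agree h2, V, ← map_mul, ← map_mul, ← map_mul, ← map_mul]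
  refine congrArg L.rho (Subtype.ext ?_)
  show (genH 2 : Cfsg.Spor.Fi24) * ftGen 1 * genH 2 = ftGen 1 * genH 2 * ftGen 1
  rw [e2]
  exact (gen_braid (g := 1) (h := 2) (by decide)).symm

theorem V_ne : L.V ≠ L.d * L.V * L.d := fun h => by
  have h1 := L.braid_d
  rw [← h] at h1
  have h2 : L.d * L.V = 1 := by
    calc L.d * L.V = L.V * (L.V * L.d * L.V) := by
          rw [← mul_assoc, ← mul_assoc, L.V_sq, one_mul]
      _ = 1 := by rw [← h1, L.V_sq]
  have h3 : L.V = L.d := by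
    rw [← inv_eq_of_mul_eq_one_right h2, inv_eq_of_mul_eq_one_right L.d_sq]
  rw [← L.rho_l, V] at h3
  have h4 : ftGen 1 = eltL := congrArg Subtype.val (L.rho_injective h3)
  exact k_not_commute (h4.symm ▸ Commute.refl eltL)

theorem V_nc : ¬ Commute L.d L.V := fun h => L.V_ne (by rw [h.eq, mul_assoc, L.d_sq, mul_one])

theorem V_conj : IsConj L.d L.V := by
  have hk : ftGen 1 ∈ link transp24 (ftGen 11) := by
    refine ⟨gen_mem (by norm_num), fun e => k_not_commute ?_, twelfth_commute_k⟩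
    rw [e]; exact twelfth_link.2.2
  obtain ⟨q, hq⟩ : L.s'⁻¹ * ftGen 1 * L.s' ∈ Set.range refl24 := by
    rw [← link_eltL]
    refine ⟨?_, fun e => hk.2.1 ?_, ?_⟩
    · simpa using transp24_group.2.1 L.s'⁻¹ _ hk.1
    · rw [← L.s'_l, ← e]; group
    · have h := (Commute.conj_iff L.s'⁻¹).2 hk.2.2
      rwa [show L.s'⁻¹ * ftGen 11 * L.s'⁻¹⁻¹ = eltL by rw [← L.s'_l]; group, inv_inv] at h
  refine (L.image_conj q).trans (isConj_iff.2 ⟨L.s, ?_⟩)
  show L.s * L.φ _ * L.s⁻¹ = L.s * L.φ _ * L.s⁻¹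
  exact congrArg (fun m => L.s * L.φ m * L.s⁻¹) (Subtype.ext hq)

/-- An element braiding `d` and commuting enough is `V` or its conjugate by `d`. -/
theorem cases_V {x : X} (hnc : ¬ Commute L.d x) (hbr : L.d * x * L.d = x * L.d * x) (hx2 : x * x = 1)
    (h11 : Commute x (L.φ (genH 11))) (h7 : Commute x (L.φ (genH 7)))
    (hall : ∀ m : ↥Fi24P.subgH, Commute (m : Cfsg.Spor.Fi24) (ftGen 1) → Commute (m : Cfsg.Spor.Fi24) (ftGen 11) →
      Commute (m : Cfsg.Spor.Fi24) (ftGen 7) → Commute (L.φ m) x) :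
    x = L.V ∨ x = L.d * L.V * L.d := by
  haveI := finite24
  obtain ⟨n, rfl⟩ := L.rho_range h11
  set N := (n : Cfsg.Spor.Fi24) with hN
  have e7 : (genH 7 : Cfsg.Spor.Fi24) = ftGen 7 := genH_coe (by norm_num) (by norm_num)
  have h7m : (genH 7 : Cfsg.Spor.Fi24) ∈ centralizer ({ftGen 11} : Set Cfsg.Spor.Fi24) :=
    mem_centralizer_singleton_iff.2 (e7 ▸ gen_comm (g := 7) (h := 11) (by decide))
  have hb : eltL * N * eltL = N * eltL * N := by
    rw [← L.rho_l, ← map_mul, ← map_mul, ← map_mul, ← map_mul] at hbr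
    exact congrArg Subtype.val (L.rho_injective hbr)
  have hn2 : N * N = 1 := by
    rw [← map_mul, ← map_one L.rho] at hx2
    exact congrArg Subtype.val (L.rho_injective hx2)
  have hN7 : Commute N (ftGen 7) := by
    rw [← L.rho_agree h7m] at h7
    have h := congrArg Subtype.val (L.rho_injective (a₁ := n * ⟨_, h7m⟩) (a₂ := ⟨_, h7m⟩ * n) (by
      rw [map_mul, map_mul]; exact h7.eq))
    simp only [Subgroup.coe_mul, e7] at h
    exact h
  have hN11 : Commute N (ftGen 11) := mem_centralizer_singleton_iff.1 n.2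
  have hnc : ¬ Commute eltL N := fun h => hnc (by
    rw [← L.rho_l]
    exact Commute.map (Subtype.ext h.eq) L.rho)
  have hND : N ∈ transp24 := by
    show IsConj eltL N
    refine isConj_iff.2 ⟨eltL * N, ?_⟩
    rw [mul_inv_rev, inv_eq_of_mul_eq_one_right hn2, inv_eq_of_mul_eq_one_right eltL_sq]
    calc eltL * N * eltL * (N * eltL) = (N * eltL * N) * (N * eltL) := by rw [hb]
      _ = N * eltL * (N * N) * eltL := by simp only [mul_assoc]
      _ = N := by rw [hn2, mul_one, mul_assoc, eltL_sq, mul_one]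
  have hnl : ∀ g : ℕ, g < 12 → g ≠ 1 → N ≠ ftGen g := fun g hg h1 e =>
    hnc (e ▸ (subgH_commute (genH_coe hg h1 ▸ (genH g).2)))
  have hkl : ∀ g : ℕ, g < 12 → g ≠ 1 → ftGen 1 ≠ ftGen g := fun g hg h1 e =>
    k_not_commute (e ▸ (subgH_commute (genH_coe hg h1 ▸ (genH g).2)))
  have hlg : ∀ g : ℕ, g < 12 → g ≠ 1 → Commute (ftGen g) (ftGen 1) → eltL ≠ ftGen g := fun g _ _ hc e =>
    k_not_commute (e ▸ hc)
  have hl7 : Commute eltL (ftGen 7) := eltL_comm (by norm_num) (by norm_num)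
  have hk7 : Commute (ftGen 1) (ftGen 7) := gen_comm (g := 1) (h := 7) (by decide)
  have h117 : Commute (ftGen 11) (ftGen 7) := (gen_comm (g := 7) (h := 11) (by decide)).symm
  have h117ne : ftGen 7 ≠ ftGen 11 := fun e => by
    have step : ∀ {a b c : ℕ}, a < 12 → b < 12 → ((a, b) ∈ braidList ∨ (b, a) ∈ braidList) →
        ((a, c) ∈ commList ∨ (c, a) ∈ commList) → ftGen c = ftGen b → ftGen a = ftGen b := by
      intro a b c ha hb hbr hcm hcb
      have hc : Commute (ftGen a) (ftGen b) := hcb ▸ (by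
        rcases hcm with h | h
        exacts [gen_comm h, (gen_comm h).symm])
      have hb' : ftGen a * ftGen b * ftGen a = ftGen b * ftGen a * ftGen b := by
        rcases hbr with h | h
        exacts [gen_braid h, (gen_braid h).symm]
      rw [hc.eq, mul_assoc, ftGen_sq a ha, mul_one] at hb'
      calc ftGen a = (ftGen b * ftGen b) * ftGen a * (ftGen b * ftGen b) := by
            rw [ftGen_sq b hb, one_mul, mul_one]
        _ = ftGen b * (ftGen b * ftGen a * ftGen b) * ftGen b := by simp only [mul_assoc]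
        _ = ftGen b := by rw [← hb', ftGen_sq b hb, one_mul]
    have h10 := step (a := 10) (b := 11) (c := 7) (by norm_num) (by norm_num) (by decide) (by decide) e
    have h5 := step (a := 5) (b := 10) (c := 11) (by norm_num) (by norm_num) (by decide) (by decide) h10.symm
    have h4 := step (a := 4) (b := 5) (c := 10) (by norm_num) (by norm_num) (by decide) (by decide) h5.symm
    have h3 := step (a := 3) (b := 4) (c := 5) (by norm_num) (by norm_num) (by decide) (by decide) h4.symm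
    have h2 := step (a := 2) (b := 3) (c := 4) (by norm_num) (by norm_num) (by decide) (by decide) h3.symm
    have h1 := step (a := 1) (b := 2) (c := 3) (by norm_num) (by norm_num) (by decide) (by decide) h2.symm
    have h0 := step (a := 0) (b := 1) (c := 2) (by norm_num) (by norm_num) (by decide) (by decide) h1.symm
    exact k_not_commute (by rw [show eltL = ftGen 0 from rfl, h0])
  have hall' : ∀ y ∈ link transp24 (ftGen 11) ∩ link transp24 (ftGen 7), y ∈ common transp24 eltL (ftGen 1) →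
      Commute N y := by
    rintro y hy ⟨hyl, hyk⟩
    have hyH : y ∈ Fi24P.subgH :=
      linkSub_le (Subgroup.subset_closure hyl)
    have hy11 : Commute y (ftGen 11) := hy.1.2.2.symm
    have hym : y ∈ centralizer ({ftGen 11} : Set Cfsg.Spor.Fi24) := mem_centralizer_singleton_iff.2 hy11.eq
    have h := hall ⟨y, hyH⟩ hyk.2.2.symm hy11 hy.2.2.2.symm
    rw [← L.rho_agree (m := ⟨y, hyH⟩) hym] at h
    exact (congrArg Subtype.val (L.rho_injective (a₁ := n * ⟨y, hym⟩) (a₂ := ⟨y, hym⟩ * n) (by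
      rw [map_mul, map_mul]; exact h.eq.symm)))
  rcases CfsgLib.M24.Glue.only_pair setup24 (a := ftGen 11) (c := ftGen 7) (l := eltL) (z := ftGen 1) (f := N)
      twelfth_link.1 ⟨gen_mem (by norm_num), h117ne, h117⟩
      ⟨⟨mem_conjugatesOf_self, hlg 11 (by norm_num) (by norm_num) twelfth_commute_k, twelfth_link.2.2.symm⟩,
        mem_conjugatesOf_self, hlg 7 (by norm_num) (by norm_num) hk7.symm, hl7.symm⟩
      ⟨⟨gen_mem (by norm_num), hkl 11 (by norm_num) (by norm_num), twelfth_commute_k⟩,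
        gen_mem (by norm_num), hkl 7 (by norm_num) (by norm_num), hk7.symm⟩
      ⟨⟨hND, hnl 11 (by norm_num) (by norm_num), hN11.symm⟩, hND, hnl 7 (by norm_num) (by norm_num), hN7.symm⟩
      k_not_commute hnc hall' with h | h
  · exact .inl (congrArg L.rho (Subtype.ext h))
  · right
    rw [← L.rho_l, V, ← map_mul, ← map_mul]
    exact congrArg L.rho (Subtype.ext h)

/-- The conjugates by the two words. -/
theorem V_comm_ten : Commute (L.φ (genH 10)) L.V := by
  obtain ⟨w1, w2, w3⟩ := toF_facts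
  obtain ⟨u1, u2, u3⟩ := toJ_facts
  have hφd : ∀ m, L.φ m * L.d * (L.φ m)⁻¹ = L.d := fun m => by rw [L.phi_comm, mul_inv_cancel_right]
  have atF : ∀ m : ↥Fi24P.subgH, Commute (m : Cfsg.Spor.Fi24) (ftGen 1) → Commute (m : Cfsg.Spor.Fi24) (ftGen 7) →
      Commute (L.φ m) (L.φ toF * L.V * (L.φ toF)⁻¹) := fun m h1 h2 => by
    have h2' := (Commute.conj_iff (toF : Cfsg.Spor.Fi24)⁻¹).2 h2
    rw [← w1, show (toF : Cfsg.Spor.Fi24)⁻¹ * ((toF : Cfsg.Spor.Fi24) * ftGen 11 * (toF : Cfsg.Spor.Fi24)⁻¹) *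
      (toF : Cfsg.Spor.Fi24)⁻¹⁻¹ = ftGen 11 by group, inv_inv] at h2'
    have h := L.V_comm (m := toF⁻¹ * m * toF)
      (by simpa only [Subgroup.coe_mul, Subgroup.coe_inv] using h2')
      ((w2.inv_left.mul_left h1).mul_left w2)
    have h' := (Commute.conj_iff (L.φ toF)).2 h
    rwa [show L.φ toF * L.φ (toF⁻¹ * m * toF) * (L.φ toF)⁻¹ = L.φ m by
      rw [map_mul, map_mul, map_inv]; group] at h'
  set Vf := L.φ toF * L.V * (L.φ toF)⁻¹ with hVf
  have atJ : ∀ m : ↥Fi24P.subgH, Commute (m : Cfsg.Spor.Fi24) (ftGen 1) → Commute (m : Cfsg.Spor.Fi24) (ftGen 9) →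
      Commute (L.φ m) (L.φ toJ * Vf * (L.φ toJ)⁻¹) := fun m h1 h2 => by
    have h2' := (Commute.conj_iff (toJ : Cfsg.Spor.Fi24)⁻¹).2 h2
    rw [← u1, show (toJ : Cfsg.Spor.Fi24)⁻¹ * ((toJ : Cfsg.Spor.Fi24) * ftGen 7 * (toJ : Cfsg.Spor.Fi24)⁻¹) *
      (toJ : Cfsg.Spor.Fi24)⁻¹⁻¹ = ftGen 7 by group, inv_inv] at h2'
    have h := atF (toJ⁻¹ * m * toJ) ((u2.inv_left.mul_left h1).mul_left u2)
      (by simpa only [Subgroup.coe_mul, Subgroup.coe_inv] using h2')
    have h' := (Commute.conj_iff (L.φ toJ)).2 h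
    rwa [show L.φ toJ * L.φ (toJ⁻¹ * m * toJ) * (L.φ toJ)⁻¹ = L.φ m by
      rw [map_mul, map_mul, map_inv]; group] at h'
  have e11 : (genH 11 : Cfsg.Spor.Fi24) = ftGen 11 := genH_coe (by norm_num) (by norm_num)
  have e7 : (genH 7 : Cfsg.Spor.Fi24) = ftGen 7 := genH_coe (by norm_num) (by norm_num)
  have e10 : (genH 10 : Cfsg.Spor.Fi24) = ftGen 10 := genH_coe (by norm_num) (by norm_num)
  suffices hVV : Vf = L.V by
    rw [← hVV]
    refine atF _ ?_ ?_ <;> rw [e10]
    · exact (gen_comm (g := 1) (h := 10) (by decide)).symm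
    · exact (gen_comm (g := 7) (h := 10) (by decide)).symm
  have hbrf : L.d * Vf * L.d = Vf * L.d * Vf := by
    have e : ∀ a b c : X, L.φ toF * (a * b * c) * (L.φ toF)⁻¹ =
        L.φ toF * a * (L.φ toF)⁻¹ * (L.φ toF * b * (L.φ toF)⁻¹) * (L.φ toF * c * (L.φ toF)⁻¹) :=
      fun a b c => by group
    have h := congrArg (fun x => L.φ toF * x * (L.φ toF)⁻¹) L.braid_d
    simp only [e, hφd, ← hVf] at h
    exact h
  have hf2 : Vf * Vf = 1 := by
    calc Vf * Vf = L.φ toF * (L.V * L.V) * (L.φ toF)⁻¹ := by rw [hVf]; group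
      _ = 1 := by rw [L.V_sq, mul_one, mul_inv_cancel]
  have hncf : ¬ Commute L.d Vf := fun h => L.V_nc (by
    have h' := (Commute.conj_iff (L.φ toF)⁻¹).2 h
    rwa [show (L.φ toF)⁻¹ * L.d * (L.φ toF)⁻¹⁻¹ = L.d by rw [← map_inv, ← map_inv]; simpa using hφd toF⁻¹,
      show (L.φ toF)⁻¹ * Vf * (L.φ toF)⁻¹⁻¹ = L.V by rw [hVf]; group] at h')
  rcases L.cases_V hncf hbrf hf2
      (atF _ (e11 ▸ twelfth_commute_k) (e11 ▸ (gen_comm (g := 7) (h := 11) (by decide)).symm)).symm
      (atF _ (e7 ▸ (gen_comm (g := 1) (h := 7) (by decide)).symm) (e7 ▸ Commute.refl _)).symm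
      (fun m h1 _ h3 => atF m h1 h3) with h | h
  · exact h
  exfalso
  set Vj := L.φ toJ * Vf * (L.φ toJ)⁻¹ with hVj
  have hJ : Vj = L.d * L.V * L.d := by
    have e1 : L.φ toJ * L.V * (L.φ toJ)⁻¹ = L.V := by
      rw [(L.V_comm u3 u2).eq, mul_inv_cancel_right]
    rw [hVj, h]
    calc L.φ toJ * (L.d * L.V * L.d) * (L.φ toJ)⁻¹ = L.φ toJ * L.d * (L.φ toJ)⁻¹ *
        (L.φ toJ * L.V * (L.φ toJ)⁻¹) * (L.φ toJ * L.d * (L.φ toJ)⁻¹) := by group
      _ = _ := by rw [hφd, e1]
  have hW : L.φ toF * Vj * (L.φ toF)⁻¹ = Vj := by rw [(atJ toF w2 w3).eq, mul_inv_cancel_right]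
  rw [hJ] at hW
  refine L.V_ne ?_
  calc L.V = L.d * L.d * L.V * (L.d * L.d) := by rw [L.d_sq, one_mul, mul_one]
    _ = L.d * (L.d * L.V * L.d) * L.d := by group
    _ = L.d * Vf * L.d := by rw [h]
    _ = L.φ toF * L.d * (L.φ toF)⁻¹ * (L.φ toF * L.V * (L.φ toF)⁻¹) * (L.φ toF * L.d * (L.φ toF)⁻¹) := by
        rw [hφd, hVf]
    _ = L.φ toF * (L.d * L.V * L.d) * (L.φ toF)⁻¹ := by group
    _ = L.d * L.V * L.d := hW

end Setting

end CfsgLib.LargeFischer.Ext
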