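import Cfsg.Agent.Lib.LargeFischer.Ext.Setting
import Cfsg.Agent.Lib.ThreeTransp.M23Invol

/-!
# Conjugates of the outer involution and members of its link
-/

set_option autoImplicit false
set_option maxRecDepth 100000
set_option linter.style.haveILetI false
set_option linter.unusedSectionVars false

namespace CfsgLib.LargeFischer.Ext

open CfsgLib.PresCert CfsgLib.Fi24P CfsgLib.Fi24P.ThreeT Subgroup
open CfsgLib.ThreeTransp (link)

attribute [local irreducible] relShort Fi23P.relShort Fi23P.levels Fi23P.wordA Fi23P.baseL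

variable {X : Type*} [Group X] {G₀ : Subgroup X} {z : ↥G₀}

/-- A member of the link commuting with the twelfth generator is carried back inside the link. -/
theorem back_link {s' x : Cfsg.Spor.Fi24} (hl : s' * eltL * s'⁻¹ = ftGen 11) (hi : s' * ftGen 11 * s'⁻¹ = eltL)
    (hx : x ∈ link transp24 eltL) (hxi : x ∈ link transp24 (ftGen 11)) :
    s'⁻¹ * x * s' ∈ link transp24 eltL ∧ Commute (s'⁻¹ * x * s') (ftGen 11) := by
  refine ⟨⟨?_, fun e => hxi.2.1 ?_, ?_⟩, ?_⟩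
  · have h := transp24_group
    simpa using h.2.1 s'⁻¹ x hx.1
  · rw [← hl, ← e]; group
  · have h := (Commute.conj_iff s'⁻¹).2 hxi.2.2
    rwa [show s'⁻¹ * ftGen 11 * (s'⁻¹)⁻¹ = eltL by rw [← hl]; group, inv_inv] at h
  · have h := (Commute.conj_iff s'⁻¹).2 hx.2.2.symm
    rwa [show s'⁻¹ * eltL * (s'⁻¹)⁻¹ = ftGen 11 by rw [← hi]; group, inv_inv] at h

namespace Setting

variable [Finite X] (L : Setting G₀ z)

theorem t_comm : (L.t : X) * L.d = L.d * (L.t : X) := mem_centralizer_singleton_iff.1 L.t.2.2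

theorem phi_comm (m : ↥Fi24P.subgH) : L.φ m * L.d = L.d * L.φ m :=
  mem_centralizer_singleton_iff.1 (L.range_eq ▸ ⟨m, rfl⟩ : L.φ m ∈ centralizer ({L.d} : Set X))

theorem d_sq : L.d * L.d = 1 := by
  rw [← L.map_l, ← map_mul, show (⟨eltL, eltL_mem⟩ : ↥Fi24P.subgH) * ⟨eltL, eltL_mem⟩ = 1 from
    Subtype.ext eltL_sq, map_one]

theorem d_notMem : L.d ∉ G₀ := fun h => by
  rw [← L.map_l, L.parity, show signHom eltL = -1 from signHom_gen 0] at h
  exact absurd h (by decide)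

theorem psi_Y (h : Cfsg.Spor.Fi23) : L.φ ⟨psi h, psi_mem h⟩ ∈ G₀ ⊓ centralizer ({L.d} : Set X) :=
  ⟨(L.parity _).2 (psi_sign h), mem_centralizer_singleton_iff.2 (L.phi_comm _)⟩

/-- The images of the members of the link. -/
theorem image (q : Fin Fi23P.tab.n) : ∃ y : ↥(G₀ ⊓ centralizer ({L.d} : Set X)), IsConj L.t y ∧
    L.φ ⟨refl24 q, refl24_subgH q⟩ = L.d * (y : X) := by
  obtain ⟨q₁, hq₁⟩ := (link_eltL ▸ twelfth_link : ftGen 11 ∈ Set.range refl24)
  obtain ⟨h, hh⟩ := isConj_iff.1 ((refl_isConj q₁).symm.trans (refl_isConj q))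
  let k : ↥(G₀ ⊓ centralizer ({L.d} : Set X)) := ⟨_, L.psi_Y h⟩
  refine ⟨k * L.t * k⁻¹, isConj_iff.2 ⟨k, rfl⟩, ?_⟩
  have e : (⟨refl24 q, refl24_subgH q⟩ : ↥Fi24P.subgH) = ⟨psi h, psi_mem h⟩ * genH 11 * ⟨psi h, psi_mem h⟩⁻¹ :=
    Subtype.ext (by
      simp only [Subgroup.coe_mul, Subgroup.coe_inv, genH_coe (show (11 : ℕ) < 12 by norm_num) (by norm_num)]
      rw [← hq₁, refl24, refl24, ← hh, map_mul, map_mul, map_inv, mul_assoc (psi h * psi _) _ eltL,
        ← map_inv, ← psi_comm]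
      simp only [mul_assoc])
  rw [e, map_mul, map_mul, map_inv, L.eleven, ← mul_assoc, L.phi_comm]
  simp only [Subgroup.coe_mul, Subgroup.coe_inv, k, mul_assoc]

theorem member_link {y : ↥(G₀ ⊓ centralizer ({L.d} : Set X))} (hy : IsConj L.t y) (hne : y ≠ L.t)
    (hc : Commute y L.t) : ∃ q, L.φ ⟨refl24 q, refl24_subgH q⟩ = L.d * (y : X) ∧
      refl24 q ∈ link transp24 (ftGen 11) := by
  obtain ⟨q, hq⟩ := L.members y hy
  refine ⟨q, hq, refl24_mem q, fun e => hne (Subtype.ext ?_), ?_⟩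
  · have e' : (⟨refl24 q, refl24_subgH q⟩ : ↥Fi24P.subgH) = genH 11 :=
      Subtype.ext (e.trans (genH_coe (by norm_num) (by norm_num)).symm)
    rw [e', L.eleven] at hq
    exact (mul_left_cancel hq).symm
  · have h' : (⟨refl24 q, refl24_subgH q⟩ : ↥Fi24P.subgH) * genH 11 = genH 11 * ⟨refl24 q, refl24_subgH q⟩ :=
      L.inj (by
        rw [map_mul, map_mul, L.eleven, hq]
        have h1 : Commute (y : X) L.d := mem_centralizer_singleton_iff.1 y.2.2
        have h2 : Commute (L.t : X) L.d := L.t_comm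
        have h3 : Commute (y : X) (L.t : X) := hc.map (Subgroup.subtype _)
        exact (((Commute.refl L.d).mul_right h2.symm).mul_left (h1.mul_right h3)).eq)
    have h'' := congrArg Subtype.val h'
    simp only [Subgroup.coe_mul, genH_coe (show (11 : ℕ) < 12 by norm_num) (by norm_num)] at h''
    exact h''.symm

theorem s_conj : L.s * L.d * L.s⁻¹ = L.d * (L.t : X) ∧ L.s * (L.d * (L.t : X)) * L.s⁻¹ = L.d := by
  have h11 : (genH 11 : Cfsg.Spor.Fi24) = ftGen 11 := genH_coe (by norm_num) (by norm_num)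
  constructor
  · have h := L.compat ⟨eltL, eltL_mem⟩ twelfth_link.2.2 (by
      show L.s' * eltL * L.s'⁻¹ ∈ _; rw [L.s'_l, ← h11]; exact (genH 11).2)
    rw [L.map_l, show (⟨L.s' * eltL * L.s'⁻¹, _⟩ : ↥Fi24P.subgH) = genH 11 from
      Subtype.ext (L.s'_l.trans h11.symm), L.eleven] at h
    exact h.symm
  · have h := L.compat (genH 11) (by rw [h11]) (by rw [h11, L.s'_i]; exact eltL_mem)
    rw [L.eleven, show (⟨L.s' * (genH 11 : Cfsg.Spor.Fi24) * L.s'⁻¹, _⟩ : ↥Fi24P.subgH) = ⟨eltL, eltL_mem⟩ from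
      Subtype.ext (by show L.s' * (genH 11 : Cfsg.Spor.Fi24) * L.s'⁻¹ = eltL; rw [h11, L.s'_i]), L.map_l] at h
    exact h.symm

/-- A pair of commuting members is the image of the basic pair. -/
theorem pair_move {a b : ↥(G₀ ⊓ centralizer ({L.d} : Set X))} (ha : IsConj L.t a) (hb : IsConj L.t b)
    (hne : a ≠ b) (hc : Commute a b) :
    ∃ r ∈ G₀, r * L.d * r⁻¹ = L.d * (a : X) ∧ r * (L.d * (L.t : X)) * r⁻¹ = L.d * (b : X) := by
  obtain ⟨h, rfl⟩ := isConj_iff.1 ha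
  set b' := h⁻¹ * b * h with hb'
  have hb't : IsConj L.t b' := hb.trans (isConj_iff.2 ⟨h⁻¹, by rw [hb', inv_inv]⟩)
  obtain ⟨q, hq, hqi⟩ := L.member_link hb't (fun e => hne (by rw [← e, hb']; group)) (by
    have h' := (Commute.conj_iff h⁻¹).2 hc.symm
    rw [show h⁻¹ * (h * L.t * h⁻¹) * h⁻¹⁻¹ = L.t by group, inv_inv] at h'
    exact h')
  obtain ⟨h1, h2⟩ := back_link L.s'_l L.s'_i (link_eltL ▸ ⟨q, rfl⟩) hqi
  rw [link_eltL] at h1
  obtain ⟨q', hq'⟩ := h1
  obtain ⟨y, hy, hyq⟩ := L.image q'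
  have e1 : L.s * (L.d * (y : X)) * L.s⁻¹ = L.d * (b' : X) := by
    rw [← hyq, ← hq]
    have e : L.s' * (refl24 q') * L.s'⁻¹ = refl24 q := by rw [hq']; group
    have := L.compat ⟨refl24 q', refl24_subgH q'⟩ (show Commute (refl24 q') (ftGen 11) by rw [hq']; exact h2) (by
      show L.s' * refl24 q' * L.s'⁻¹ ∈ _; rw [e]; exact refl24_subgH q)
    rw [← this]
    exact congrArg L.φ (Subtype.ext e)
  obtain ⟨k, rfl⟩ := isConj_iff.1 hy
  have hk : Commute (k : X) L.d := mem_centralizer_singleton_iff.1 k.2.2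
  have hh : Commute (h : X) L.d := mem_centralizer_singleton_iff.1 h.2.2
  have hkd : (k : X) * L.d * (k : X)⁻¹ = L.d := by rw [hk.eq, mul_inv_cancel_right]
  have hhd : (h : X) * L.d * (h : X)⁻¹ = L.d := by rw [hh.eq, mul_inv_cancel_right]
  obtain ⟨hs1, -⟩ := L.s_conj
  refine ⟨(h : X) * L.s * (k : X), mul_mem (mul_mem h.2.1 L.s_mem) k.2.1, ?_, ?_⟩
  · calc (h : X) * L.s * (k : X) * L.d * ((h : X) * L.s * (k : X))⁻¹
        = (h : X) * (L.s * ((k : X) * L.d * (k : X)⁻¹) * L.s⁻¹) * (h : X)⁻¹ := by group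
      _ = ((h : X) * L.d * (h : X)⁻¹) * ((h : X) * (L.t : X) * (h : X)⁻¹) := by rw [hkd, hs1]; group
      _ = _ := by rw [hhd]; rfl
  · calc (h : X) * L.s * (k : X) * (L.d * (L.t : X)) * ((h : X) * L.s * (k : X))⁻¹
        = (h : X) * (L.s * (((k : X) * L.d * (k : X)⁻¹) * ((k : X) * (L.t : X) * (k : X)⁻¹)) * L.s⁻¹) *
            (h : X)⁻¹ := by group
      _ = (h : X) * (L.s * (L.d * ((k * L.t * k⁻¹ : ↥(G₀ ⊓ centralizer ({L.d} : Set X))) : X)) * L.s⁻¹) *
            (h : X)⁻¹ := by rw [hkd]; rfl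
      _ = ((h : X) * L.d * (h : X)⁻¹) * ((h : X) * (b' : X) * (h : X)⁻¹) := by rw [e1]; group
      _ = _ := by
        rw [hhd, hb', Subgroup.coe_mul, Subgroup.coe_mul, Subgroup.coe_inv]
        group

/-- A conjugate of `d` commuting with a member commutes with `d`. -/
theorem fix_d {x : X} (hx : IsConj L.d x) {t' : ↥(G₀ ⊓ centralizer ({L.d} : Set X))} (ht' : IsConj L.t t')
    (hc : Commute x (t' : X)) : Commute x L.d := by
  obtain ⟨g, hg, rfl⟩ : ∃ g ∈ G₀, g * L.d * g⁻¹ = x := by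
    obtain ⟨g, rfl⟩ := isConj_iff.1 hx
    by_cases hg : g ∈ G₀
    · exact ⟨g, hg, rfl⟩
    · refine ⟨g * L.d, (Subgroup.mul_mem_iff_of_index_two L.idx).2 (iff_of_false hg L.d_notMem), ?_⟩
      rw [mul_assoc (g * L.d)]; group
  have hdt : Commute L.d (L.t : X) := L.t_comm.symm
  set v := g⁻¹ * (t' : X) * g with hv
  have hvd : Commute v L.d := by
    have h := (Commute.conj_iff g⁻¹).2 hc.symm
    simpa [mul_assoc, hv] using h
  have hvY : v ∈ G₀ ⊓ centralizer ({L.d} : Set X) :=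
    ⟨G₀.mul_mem (G₀.mul_mem (G₀.inv_mem hg) t'.2.1) hg, mem_centralizer_singleton_iff.2 hvd.eq⟩
  set w : ↥(G₀ ⊓ centralizer ({L.d} : Set X)) := ⟨v, hvY⟩ with hw
  obtain ⟨k, rfl⟩ := isConj_iff.1 ht'
  have hk : Commute (k : X) L.d := mem_centralizer_singleton_iff.1 k.2.2
  have hw2 : orderOf w = 2 := by
    have ht2 : orderOf L.t = 2 := orderOf_eq_prime (by rw [pow_two]; exact L.setup.tt.sq _ mem_conjugatesOf_self)
      (L.setup.tt.ne_one _ mem_conjugatesOf_self)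
    rw [← orderOf_coe w]
    show orderOf v = 2
    rw [hv, ← ht2, ← orderOf_coe L.t, Subgroup.coe_mul, Subgroup.coe_mul, Subgroup.coe_inv]
    have e : g⁻¹ * ((k : X) * (L.t : X) * (k : X)⁻¹) * g = MulAut.conj (g⁻¹ * (k : X)) (L.t : X) := by
      rw [MulAut.conj_apply]; group
    rw [e, MulEquiv.orderOf_eq]
  have pair : ∀ c ∈ G₀, c * (L.t : X) * c⁻¹ = (L.t : X) →
      c * L.d * c⁻¹ = L.d ∨ c * L.d * c⁻¹ = L.d * (L.t : X) := fun c hcG hct => by
    have h := L.swap c hcG (by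
      rw [L.eleven, ← mul_assoc L.d L.d, L.d_sq, one_mul]
      exact mul_inv_eq_iff_eq_mul.1 hct)
    rwa [L.eleven] at h
  have hgv : g * v * g⁻¹ = (k : X) * (L.t : X) * (k : X)⁻¹ := by
    rw [hv, Subgroup.coe_mul, Subgroup.coe_mul, Subgroup.coe_inv]; group
  rcases CfsgLib.M23.invol_cases L.setup hw2 with hT | ⟨a, b, ha, hb, hab⟩ | ⟨a, b, c, T, habc⟩
  · obtain ⟨h, hh⟩ := isConj_iff.1 hT
    have hh' : (h : X) * (L.t : X) * (h : X)⁻¹ = v := congrArg Subtype.val hh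
    have hhd : Commute (h : X) L.d := mem_centralizer_singleton_iff.1 h.2.2
    set c := (k : X)⁻¹ * g * (h : X) with hc'
    have hct : c * (L.t : X) * c⁻¹ = (L.t : X) := by
      calc c * (L.t : X) * c⁻¹ = (k : X)⁻¹ * (g * ((h : X) * (L.t : X) * (h : X)⁻¹) * g⁻¹) * (k : X) := by
            rw [hc']; group
        _ = (L.t : X) := by rw [hh', hgv]; group
    have hcd : Commute (c * L.d * c⁻¹) L.d := by
      rcases pair c (mul_mem (mul_mem (inv_mem k.2.1) hg) h.2.1) hct with e | e <;> rw [e]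
      exact (Commute.refl L.d).mul_left hdt.symm
    have h1 := (Commute.conj_iff (k : X)).2 hcd
    have ek : (k : X) * L.d * (k : X)⁻¹ = L.d := by rw [hk.eq, mul_inv_cancel_right]
    have eh : (h : X) * L.d * (h : X)⁻¹ = L.d := by rw [hhd.eq, mul_inv_cancel_right]
    rw [ek, show (k : X) * (c * L.d * c⁻¹) * (k : X)⁻¹ = g * ((h : X) * L.d * (h : X)⁻¹) * g⁻¹ by
      rw [hc']; group, eh] at h1
    exact h1
  · have haY : Commute (a : X) L.d := mem_centralizer_singleton_iff.1 a.2.2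
    have hbY : Commute (b : X) L.d := mem_centralizer_singleton_iff.1 b.2.2
    obtain ⟨r, hr, r1, r2⟩ := L.pair_move ha hb.1 hb.2.1.symm hb.2.2
    have hrt : r * (L.t : X) * r⁻¹ = v := by
      calc r * (L.t : X) * r⁻¹ = r * L.d * r⁻¹ * (r * (L.d * (L.t : X)) * r⁻¹) := by
            rw [show r * L.d * r⁻¹ * (r * (L.d * (L.t : X)) * r⁻¹) = r * ((L.d * L.d) * (L.t : X)) * r⁻¹ by group,
              L.d_sq, one_mul]
        _ = L.d * (a : X) * (L.d * (b : X)) := by rw [r1, r2]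
        _ = (a : X) * (L.d * L.d) * (b : X) := by rw [← haY.eq]; group
        _ = v := by rw [L.d_sq, mul_one]; exact congrArg Subtype.val hab
    set c := (k : X)⁻¹ * g * r with hc'
    have hct : c * (L.t : X) * c⁻¹ = (L.t : X) := by
      calc c * (L.t : X) * c⁻¹ = (k : X)⁻¹ * (g * (r * (L.t : X) * r⁻¹) * g⁻¹) * (k : X) := by rw [hc']; group
        _ = (L.t : X) := by rw [hrt, hgv]; group
    have ek : (k : X) * L.d * (k : X)⁻¹ = L.d := by rw [hk.eq, mul_inv_cancel_right]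
    have hfix : ∀ u, Commute L.d u → g * u * g⁻¹ = L.d → Commute (g * L.d * g⁻¹) L.d := fun u hu e => by
      have := (Commute.conj_iff g).2 hu
      rwa [e] at this
    rcases pair c (mul_mem (mul_mem (inv_mem k.2.1) hg) hr) hct with e | e
    · refine hfix (L.d * (a : X)) ((Commute.refl L.d).mul_right haY.symm) ?_
      calc g * (L.d * (a : X)) * g⁻¹ = (k : X) * (c * L.d * c⁻¹) * (k : X)⁻¹ := by rw [← r1, hc']; group
        _ = L.d := by rw [e, ek]
    · refine hfix (L.d * (b : X)) ((Commute.refl L.d).mul_right hbY.symm) ?_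
      have hc2 : c * (L.d * (L.t : X)) * c⁻¹ = L.d := by
        calc c * (L.d * (L.t : X)) * c⁻¹ = c * L.d * c⁻¹ * (c * (L.t : X) * c⁻¹) := by group
          _ = L.d * ((L.t : X) * (L.t : X)) := by rw [e, hct, mul_assoc]
          _ = L.d := by
            rw [show (L.t : X) * (L.t : X) = 1 from
              congrArg Subtype.val (L.setup.tt.sq _ mem_conjugatesOf_self), mul_one]
      calc g * (L.d * (b : X)) * g⁻¹ = (k : X) * (c * (L.d * (L.t : X)) * c⁻¹) * (k : X)⁻¹ := by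
            rw [← r2, hc']; group
        _ = L.d := by rw [hc2, ek]
  · exfalso
    obtain ⟨a', b', c', T', g', hg', hz⟩ := L.tri
    obtain ⟨m, m1, m2, m3⟩ := CfsgLib.M23.tri_conj L.setup T T'
    have hm : (m : X) * v * (m : X)⁻¹ = ((a' * b' * c' : ↥(G₀ ⊓ centralizer ({L.d} : Set X))) : X) := by
      have e : m * w * m⁻¹ = a' * b' * c' := by rw [← habc, ← m1, ← m2, ← m3]; group
      exact congrArg Subtype.val e
    refine L.not_z (g' * (m : X) * g⁻¹ * (k : X))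
      (mul_mem (mul_mem (mul_mem hg' m.2.1) (inv_mem hg)) k.2.1) ?_
    rw [← hz, ← hm]
    calc g' * (m : X) * g⁻¹ * (k : X) * (L.t : X) * (g' * (m : X) * g⁻¹ * (k : X))⁻¹
        = g' * ((m : X) * (g⁻¹ * ((k : X) * (L.t : X) * (k : X)⁻¹) * g) * (m : X)⁻¹) * g'⁻¹ := by group
      _ = _ := by rw [← hgv]; group

/-- A conjugate of `d` commuting with the product of two members of the link commutes with both. -/
theorem fix_pair {x : X} (hx : IsConj L.d x) {p q : Fin Fi23P.tab.n} (hne : refl24 p ≠ refl24 q)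
    (hpq : Commute (refl24 p) (refl24 q))
    (hc : Commute x (L.φ ⟨refl24 p, refl24_subgH p⟩ * L.φ ⟨refl24 q, refl24_subgH q⟩)) :
    Commute x (L.φ ⟨refl24 p, refl24_subgH p⟩) ∧ Commute x (L.φ ⟨refl24 q, refl24_subgH q⟩) := by
  obtain ⟨a, ha, ea⟩ := L.image p
  obtain ⟨b, hb, eb⟩ := L.image q
  have haY : Commute (a : X) L.d := mem_centralizer_singleton_iff.1 a.2.2
  have hbY : Commute (b : X) L.d := mem_centralizer_singleton_iff.1 b.2.2
  have hab : a ≠ b := fun e => hne (congrArg Subtype.val (L.inj (by rw [ea, eb, e]) :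
    (⟨refl24 p, refl24_subgH p⟩ : ↥Fi24P.subgH) = ⟨refl24 q, refl24_subgH q⟩))
  have habc : Commute a b := Subtype.ext (by
    have h := congrArg L.φ (Subtype.ext hpq.eq : (⟨refl24 p, refl24_subgH p⟩ : ↥Fi24P.subgH) *
      ⟨refl24 q, refl24_subgH q⟩ = ⟨refl24 q, refl24_subgH q⟩ * ⟨refl24 p, refl24_subgH p⟩)
    rw [map_mul, map_mul, ea, eb] at h
    show (a : X) * (b : X) = (b : X) * (a : X)
    have e1 : L.d * (a : X) * (L.d * (b : X)) = (a : X) * (b : X) := by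
      rw [← haY.eq, mul_assoc (a : X), ← mul_assoc L.d, L.d_sq, one_mul]
    have e2 : L.d * (b : X) * (L.d * (a : X)) = (b : X) * (a : X) := by
      rw [← hbY.eq, mul_assoc (b : X), ← mul_assoc L.d, L.d_sq, one_mul]
    rw [← e1, ← e2, h])
  obtain ⟨r, -, r1, r2⟩ := L.pair_move ha hb hab habc
  have hprod : L.φ ⟨refl24 p, refl24_subgH p⟩ * L.φ ⟨refl24 q, refl24_subgH q⟩ = r * (L.t : X) * r⁻¹ := by
    rw [ea, eb, ← r1, ← r2]
    calc r * L.d * r⁻¹ * (r * (L.d * (L.t : X)) * r⁻¹) = r * (L.d * L.d * (L.t : X)) * r⁻¹ := by group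
      _ = _ := by rw [L.d_sq, one_mul]
  have hx' : IsConj L.d (r⁻¹ * x * r) := hx.trans (isConj_iff.2 ⟨r⁻¹, by rw [inv_inv]⟩)
  have h1 : Commute (r⁻¹ * x * r) (L.t : X) := by
    have h := (Commute.conj_iff r⁻¹).2 hc
    rw [hprod] at h
    simpa [mul_assoc] using h
  have h2 := L.fix_d hx' (IsConj.refl L.t) h1
  have back : ∀ u, Commute (r⁻¹ * x * r) u → Commute x (r * u * r⁻¹) := fun u hu => by
    have h := (Commute.conj_iff r).2 hu
    rwa [show r * (r⁻¹ * x * r) * r⁻¹ = x by group] at h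
  exact ⟨ea ▸ r1 ▸ back _ h2, eb ▸ r2 ▸ back _ (h2.mul_right h1)⟩

end Setting

end CfsgLib.LargeFischer.Ext
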