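import Cfsg.Agent.Lib.LargeFischer.Ext.Lift
import Cfsg.Agent.Lib.ThreeTransp.M23Count
import Cfsg.Agent.Lib.ThreeTransp.M24Invol

/-!
# The exchange of the outer involution with its partner, compatible with the model
-/

set_option autoImplicit false
set_option maxRecDepth 100000
set_option maxHeartbeats 1000000
set_option linter.style.haveILetI false
set_option linter.unusedSectionVars false

namespace CfsgLib.LargeFischer.Ext

open CfsgLib.PresCert CfsgLib.Fi24P CfsgLib.Fi24P.ThreeT Subgroup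
open CfsgLib.LargeFischer.Outer (Fi)
open CfsgLib.ThreeTransp (link)

attribute [local irreducible] relShort Fi23P.relShort Fi23P.levels Fi23P.wordA Fi23P.baseL

variable {X : Type*} [Group X]

/-- The model with the second involution and the exchange. -/
structure Setting (G₀ : Subgroup X) (z : ↥G₀) extends Model G₀ z where
  t : ↥(G₀ ⊓ centralizer ({d} : Set X))
  setup : CfsgLib.M23.Setup (conjugatesOf t)
  eleven : φ (genH 11) = d * (t : X)
  members : ∀ y : ↥(G₀ ⊓ centralizer ({d} : Set X)), IsConj t y →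
    ∃ q, φ ⟨refl24 q, refl24_subgH q⟩ = d * (y : X)
  tri : ∃ a b c : ↥(G₀ ⊓ centralizer ({d} : Set X)), CfsgLib.M22.Tri (conjugatesOf t) a b c ∧
    ∃ g ∈ G₀, g * ((a * b * c : ↥(G₀ ⊓ centralizer ({d} : Set X))) : X) * g⁻¹ = (z : X)
  not_z : ∀ g ∈ G₀, g * (t : X) * g⁻¹ ≠ (z : X)
  s : X
  s_mem : s ∈ G₀
  s' : Cfsg.Spor.Fi24
  s'_l : s' * eltL * s'⁻¹ = ftGen 11
  s'_i : s' * ftGen 11 * s'⁻¹ = eltL
  compat : ∀ (m : ↥Fi24P.subgH), Commute (m : Cfsg.Spor.Fi24) (ftGen 11) →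
    ∀ h' : s' * (m : Cfsg.Spor.Fi24) * s'⁻¹ ∈ Fi24P.subgH, φ ⟨_, h'⟩ = s * φ m * s⁻¹

section

variable [Finite X]

theorem swap_mem {s' : Cfsg.Spor.Fi24} (hl : s' * eltL * s'⁻¹ = ftGen 11) (hi : s' * ftGen 11 * s'⁻¹ = eltL)
    {m : Cfsg.Spor.Fi24} (hml : Commute m eltL) (hmi : Commute m (ftGen 11)) :
    s' * m * s'⁻¹ ∈ Fi24P.subgH ∧ Commute (s' * m * s'⁻¹) (ftGen 11) := by
  refine ⟨?_, ?_⟩
  · rw [← centralizer_eltL, mem_centralizer_singleton_iff, ← hi]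
    exact ((Commute.conj_iff s').2 hmi).eq
  · rw [← hl]
    exact (Commute.conj_iff s').2 hml

theorem exists_setting {G₀ : Subgroup X} (hidx : G₀.index = 2) (z : ↥G₀)
    (Q : Subgroup (centralizer ({z} : Set ↥G₀))) [Q.Normal] (hF : Cfsg.IsOfLargeFischerTypeAt z Q)
    (hFX : (Cfsg.generalizedFittingSubgroup ↥(centralizer ({(z : X)} : Set X))).map (Subgroup.subtype _) =
      ((Q.map (Subgroup.subtype _)).map G₀.subtype))
    (hcov : ∀ t : ↥G₀, (∃ htc : t ∈ centralizer ({z} : Set ↥G₀), (⟨t, htc⟩ : centralizer ({z} : Set ↥G₀)) ∈ Q) →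
      orderOf t = 2 → ¬ IsConj z t → Nonempty (Fi t)) :
    Nonempty (Setting G₀ z) := by
  classical
  obtain ⟨d, hd, hdG, t₀, F, hdt, hzt, hKd, hdK, ⟨u, huC, hud⟩, t, ht, S, a, b, c, T, g₀, hg₀, hz⟩ :=
    exists_core G₀ hidx z Q hF hFX hcov
  obtain ⟨φ, hinj, hrange, hl, hpar, h11, hmem⟩ := exists_phi hidx hd hdG t S
  have h11' : φ (genH 11) = d * (t₀ : X) := ht ▸ h11
  haveI := F.norm
  haveI : Finite Cfsg.Spor.Fi24 := finite24
  -- an outer element centralising the cover differs from `d` by a power of `t`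
  have huniq : ∀ d' : X, d' ∉ G₀ → (∀ k ∈ F.K, d' * ((k : ↥G₀) : X) = ((k : ↥G₀) : X) * d') →
      d' * (t₀ : X) = (t₀ : X) * d' → d' = d ∨ d' = d * (t₀ : X) := by
    intro d' hd'G hd'K hd't
    have hin : d * d' ∈ G₀ := (Subgroup.mul_mem_iff_of_index_two hidx).2 (iff_of_false hdG hd'G)
    have hc : (⟨d * d', hin⟩ : ↥G₀) ∈ centralizer ({t₀} : Set ↥G₀) :=
      mem_centralizer_singleton_iff.2 (Subtype.ext (by
        show d * d' * (t₀ : X) = (t₀ : X) * (d * d')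
        rw [mul_assoc, hd't, ← mul_assoc, hdt, mul_assoc]))
    have := F.cent ⟨_, hc⟩ fun k hk => Subtype.ext (Subtype.ext (by
      show d * d' * ((k : ↥G₀) : X) = ((k : ↥G₀) : X) * (d * d')
      rw [mul_assoc, hd'K k hk, ← mul_assoc, hKd k hk, mul_assoc]))
    obtain ⟨j, hj⟩ := mem_zpowers_iff.1 this
    have hj' : (t₀ : X) ^ j = d * d' := congrArg (Subtype.val : ↥G₀ → X) hj
    have ht2 : (t₀ : X) * (t₀ : X) = 1 := by
      rw [← ht]; exact congrArg Subtype.val (S.tt.sq t mem_conjugatesOf_self)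
    have e : d' = d * (t₀ : X) ^ j := by rw [hj', ← mul_assoc, hd, one_mul]
    rcases Int.even_or_odd j with ⟨k, rfl⟩ | ⟨k, rfl⟩
    · left
      rw [e, ← two_mul, zpow_mul, zpow_two, ht2, one_zpow, mul_one]
    · right
      rw [e, zpow_add, zpow_mul, zpow_two, ht2, one_zpow, one_mul, zpow_one]
  have hswap : ∀ g ∈ G₀, g * (d * φ (genH 11)) = d * φ (genH 11) * g →
      g * d * g⁻¹ = d ∨ g * d * g⁻¹ = φ (genH 11) := by
    intro g hg hgt
    rw [h11', ← mul_assoc d d, hd, one_mul] at hgt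
    rw [h11']
    have hgC : (⟨g, hg⟩ : ↥G₀) ∈ centralizer ({t₀} : Set ↥G₀) := mem_centralizer_singleton_iff.2 (Subtype.ext hgt)
    refine huniq _ (fun h => hdG ?_) (fun k hk => ?_) ?_
    · have := G₀.mul_mem (G₀.mul_mem (G₀.inv_mem hg) h) hg
      simpa [mul_assoc] using this
    · have h1 := hKd _ (F.norm.conj_mem k hk ⟨_, hgC⟩⁻¹)
      simp only [Subgroup.coe_mul, InvMemClass.coe_inv, inv_inv] at h1
      calc g * d * g⁻¹ * ((k : ↥G₀) : X) = g * (d * (g⁻¹ * ((k : ↥G₀) : X) * g)) * g⁻¹ := by group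
        _ = _ := by rw [h1]; group
    · have hg' : Commute g⁻¹ (t₀ : X) := (show Commute g (t₀ : X) from hgt).inv_left
      calc g * d * g⁻¹ * (t₀ : X) = g * (d * (t₀ : X)) * g⁻¹ := by rw [mul_assoc (g * d), hg'.eq]; group
        _ = g * (t₀ : X) * (d * g⁻¹) := by rw [hdt]; group
        _ = (t₀ : X) * (g * d * g⁻¹) := by rw [hgt]; group
  have huC' : (u : X) * (t₀ : X) = (t₀ : X) * (u : X) :=
    congrArg (Subtype.val : ↥G₀ → X) (mem_centralizer_singleton_iff.1 huC)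
  have hud' : (u : X) * d * (u : X)⁻¹ = d * (t₀ : X) := by
    rcases hswap u u.2 (by rw [h11', ← mul_assoc d d, hd, one_mul]; exact huC') with h | h
    · exact absurd (mul_inv_eq_iff_eq_mul.1 h).symm hud
    · rwa [h11'] at h
  -- the exchange in the model
  have hel : eltL ∈ transp24 := mem_conjugatesOf_self
  obtain ⟨f₀, hf1, hf2⟩ : (link transp24 eltL ∩ link transp24 (ftGen 11)).Nonempty :=
    (Set.ncard_pos (Set.toFinite _)).1 (by rw [CfsgLib.M24.link_two_ncard setup24 hel twelfth_link]; norm_num)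
  obtain ⟨s₀, -, hs0, hs1⟩ := CfsgLib.M24.swapper setup24 hel twelfth_link hf1 hf2
  have hφC : ∀ m, φ m * d = d * φ m := fun m =>
    mem_centralizer_singleton_iff.1 (hrange ▸ ⟨m, rfl⟩ : φ m ∈ centralizer ({d} : Set X))
  have hcomm11 : ∀ m : ↥Fi24P.subgH, Commute (m : Cfsg.Spor.Fi24) (ftGen 11) ↔
      φ m * (t₀ : X) = (t₀ : X) * φ m := fun m => by
    rw [← genH_coe (g := 11) (by norm_num) (by norm_num)]
    constructor
    · intro h
      have h' := congrArg φ (Subtype.ext h.eq : m * genH 11 = genH 11 * m)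
      rw [map_mul, map_mul, h11', ← mul_assoc, hφC, mul_assoc, mul_assoc] at h'
      exact mul_left_cancel h'
    · intro h
      refine congrArg Subtype.val (hinj ?_ : m * genH 11 = genH 11 * m)
      rw [map_mul, map_mul, h11', ← mul_assoc, hφC, mul_assoc, h, mul_assoc]
  have hKpre : ∀ k : ↥F.K, ∃ m : ↥Fi24P.subgH, φ m = (((k : ↥(centralizer ({t₀} : Set ↥G₀))) : ↥G₀) : X) := fun k => by
    have : (((k : ↥(centralizer ({t₀} : Set ↥G₀))) : ↥G₀) : X) ∈ φ.range :=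
      hrange ▸ mem_centralizer_singleton_iff.2 (hKd _ k.2).symm
    exact this
  choose pre hpre using hKpre
  have hpre11 : ∀ k, Commute (pre k : Cfsg.Spor.Fi24) (ftGen 11) := fun k => (hcomm11 _).2 (by
    rw [hpre]
    exact congrArg (Subtype.val : ↥G₀ → X) (mem_centralizer_singleton_iff.1 (k : ↥(centralizer ({t₀} : Set ↥G₀))).2))
  have hpl : ∀ m : ↥Fi24P.subgH, Commute (m : Cfsg.Spor.Fi24) eltL := fun m => (subgH_commute m.2).symm
  let α₀ : ↥F.K →* X :=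
    MonoidHom.mk' (fun k => φ ⟨_, (swap_mem hs0 hs1 (hpl (pre k)) (hpre11 k)).1⟩) fun k k' => by
      have e : pre (k * k') = pre k * pre k' := hinj (by rw [map_mul, hpre, hpre, hpre]; rfl)
      rw [← map_mul]
      refine congrArg φ (Subtype.ext ?_)
      show s₀ * (pre (k * k') : Cfsg.Spor.Fi24) * s₀⁻¹ = s₀ * _ * s₀⁻¹ * (s₀ * _ * s₀⁻¹)
      rw [e, Subgroup.coe_mul]
      group
  have hsign : ∀ k, signHom (pre k : Cfsg.Spor.Fi24) = 1 := fun k =>
    (hpar _).1 (by rw [hpre]; exact ((k : ↥(centralizer ({t₀} : Set ↥G₀))) : ↥G₀).2)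
  have hαG : ∀ k, α₀ k ∈ G₀ := fun k => by
    show φ _ ∈ G₀
    rw [hpar]
    show signHom (s₀ * (pre k : Cfsg.Spor.Fi24) * s₀⁻¹) = 1
    rw [map_mul, map_mul, map_inv, hsign, mul_one, mul_inv_cancel]
  have hαt : ∀ k, α₀ k * (t₀ : X) = (t₀ : X) * α₀ k := fun k =>
    (hcomm11 _).1 (swap_mem hs0 hs1 (hpl (pre k)) (hpre11 k)).2
  let αG : ↥F.K →* ↥G₀ := α₀.codRestrict G₀ hαG
  let αC : ↥F.K →* ↥(centralizer ({t₀} : Set ↥G₀)) :=
    αG.codRestrict _ fun k => mem_centralizer_singleton_iff.2 (Subtype.ext (hαt k))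
  let α : ↥F.K →* ↥F.K := αC.codRestrict F.K fun k => hdK _ (hφC _).symm
  have hαX : ∀ k, (((α k : ↥(centralizer ({t₀} : Set ↥G₀))) : ↥G₀) : X) = α₀ k := fun k => rfl
  let uC : ↥(centralizer ({t₀} : Set ↥G₀)) := ⟨u, huC⟩
  let β : ↥F.K →* ↥F.K := (MulAut.conjNormal uC : MulAut ↥F.K).toMonoidHom
  have hβX : ∀ k, (((β k : ↥(centralizer ({t₀} : Set ↥G₀))) : ↥G₀) : X) =
      (u : X) * (((k : ↥(centralizer ({t₀} : Set ↥G₀))) : ↥G₀) : X) * (u : X)⁻¹ := fun k => rfl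
  have hcen : ∀ (k g : ↥F.K), F.ι g = 1 → g * k = k * g := fun k g hg => Subtype.ext (Subtype.ext (by
    obtain ⟨j, hj⟩ := mem_zpowers_iff.1 ((F.ker g).1 hg)
    show ((g : ↥(centralizer ({t₀} : Set ↥G₀))) : ↥G₀) * ((k : ↥(centralizer ({t₀} : Set ↥G₀))) : ↥G₀) =
      ((k : ↥(centralizer ({t₀} : Set ↥G₀))) : ↥G₀) * ((g : ↥(centralizer ({t₀} : Set ↥G₀))) : ↥G₀)
    rw [← hj]
    exact (Commute.zpow_left (mem_centralizer_singleton_iff.1 (k : ↥(centralizer ({t₀} : Set ↥G₀))).2).symm j).eq))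
  -- homomorphisms agreeing modulo the kernel are equal
  have hrigid : ∀ μ ν : ↥F.K →* ↥F.K, (∀ k, F.ι (μ k) = F.ι (ν k)) → ∀ k, μ k = ν k := by
    intro μ ν h
    have hd : ∀ k, F.ι (μ k * (ν k)⁻¹) = 1 := fun k => by rw [map_mul, map_inv, h, mul_inv_cancel]
    let δ : ↥F.K →* ↥(Subgroup.center ↥F.K) := MonoidHom.mk'
      (fun k => ⟨μ k * (ν k)⁻¹, Subgroup.mem_center_iff.2 fun g => (hcen g _ (hd k)).symm⟩)
      fun k l => Subtype.ext (by
        show μ (k * l) * (ν (k * l))⁻¹ = μ k * (ν k)⁻¹ * (μ l * (ν l)⁻¹)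
        rw [mul_assoc (μ k) (ν k)⁻¹, ← hcen (ν k)⁻¹ _ (hd l), map_mul, map_mul, mul_inv_rev]
        simp only [mul_assoc])
    intro k
    have hδ : commutator ↥F.K ≤ δ.ker := by
      rw [_root_.commutator_def, Subgroup.commutator_le]
      intro x _ w _
      rw [MonoidHom.mem_ker, map_commutatorElement, commutatorElement_eq_one_iff_mul_comm]
      exact Subtype.ext (Subgroup.mem_center_iff.1 (δ w).2 _)
    have h1 := hδ (F.quasi.1.commutator_eq_top ▸ Subgroup.mem_top k)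
    exact mul_inv_eq_one.1 (congrArg Subtype.val (MonoidHom.mem_ker.1 h1))
  have hbar : ∀ μ : ↥F.K →* ↥F.K, Function.Injective μ →
      (∀ k, F.ι k = 1 → μ k = k) → ∃ A : MulAut Cfsg.Spor.Fi22, ∀ k, A (F.ι k) = F.ι (μ k) := by
    intro μ hμ hfix
    haveI := CfsgLib.Fi22P.card_fi.1
    haveI : Finite ↥F.K := inferInstance
    let β₀ : Cfsg.Spor.Fi22 →* Cfsg.Spor.Fi22 := F.ι.liftOfSurjective F.surj
      ⟨F.ι.comp μ, fun k hk => by
        rw [MonoidHom.mem_ker, MonoidHom.comp_apply, hfix k (MonoidHom.mem_ker.1 hk)]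
        exact MonoidHom.mem_ker.1 hk⟩
    have hβ₀ : ∀ k, β₀ (F.ι k) = F.ι (μ k) := fun k =>
      MonoidHom.liftOfRightInverse_comp_apply _ _ (Function.rightInverse_surjInv F.surj) _ k
    have hsur : Function.Surjective μ := (Finite.injective_iff_surjective).1 hμ
    have hs : Function.Surjective β₀ := fun g => by
      obtain ⟨k, rfl⟩ := F.surj g
      obtain ⟨k', rfl⟩ := hsur k
      exact ⟨F.ι k', hβ₀ k'⟩
    exact ⟨MulEquiv.ofBijective β₀ (Finite.surjective_iff_bijective.1 hs), hβ₀⟩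
  have hTK : ∀ k : ↥F.K, F.ι k = 1 →
      (((k : ↥(centralizer ({t₀} : Set ↥G₀))) : ↥G₀) : X) = 1 ∨
      (((k : ↥(centralizer ({t₀} : Set ↥G₀))) : ↥G₀) : X) = t₀ := fun k hk => by
    obtain ⟨j, hj⟩ := mem_zpowers_iff.1 ((F.ker k).1 hk)
    have hj' : (t₀ : X) ^ j = (((k : ↥(centralizer ({t₀} : Set ↥G₀))) : ↥G₀) : X) :=
      congrArg (Subtype.val : ↥G₀ → X) hj
    have ht2 : (t₀ : X) * (t₀ : X) = 1 := by
      rw [← ht]; exact congrArg Subtype.val (S.tt.sq t mem_conjugatesOf_self)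
    rw [← hj']
    rcases Int.even_or_odd j with ⟨i, rfl⟩ | ⟨i, rfl⟩
    · left; rw [← two_mul, zpow_mul, zpow_two, ht2, one_zpow]
    · right; rw [zpow_add, zpow_mul, zpow_two, ht2, one_zpow, one_mul, zpow_one]
  have hφt : φ (⟨eltL, eltL_mem⟩ * genH 11) = (t₀ : X) := by
    rw [map_mul, hl, h11', ← mul_assoc, hd, one_mul]
  have hαfix : ∀ k, F.ι k = 1 → α k = k := fun k hk => Subtype.ext (Subtype.ext (Subtype.ext (by
    rw [hαX]
    show φ _ = _
    rcases hTK k hk with h | h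
    · have e : pre k = 1 := hinj (by rw [hpre, h, map_one])
      rw [h, ← map_one φ]
      exact congrArg φ (Subtype.ext (by
        show s₀ * (pre k : Cfsg.Spor.Fi24) * s₀⁻¹ = 1
        rw [e, Subgroup.coe_one, mul_one, mul_inv_cancel]))
    · have e : pre k = ⟨eltL, eltL_mem⟩ * genH 11 := hinj (by rw [hpre, h, hφt])
      rw [h, ← hφt]
      refine congrArg φ (Subtype.ext ?_)
      show s₀ * (pre k : Cfsg.Spor.Fi24) * s₀⁻¹ = eltL * (genH 11 : Cfsg.Spor.Fi24)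
      rw [e, Subgroup.coe_mul, genH_coe (by norm_num) (by norm_num), twelfth_link.2.2.eq]
      show s₀ * (ftGen 11 * eltL) * s₀⁻¹ = _
      calc s₀ * (ftGen 11 * eltL) * s₀⁻¹ = (s₀ * ftGen 11 * s₀⁻¹) * (s₀ * eltL * s₀⁻¹) := by group
        _ = ftGen 11 * eltL := by rw [hs0, hs1, twelfth_link.2.2.eq])))
  have hβfix : ∀ k, F.ι k = 1 → β k = k := fun k hk => Subtype.ext (Subtype.ext (Subtype.ext (by
    rw [hβX]
    rcases hTK k hk with h | h <;> rw [h]
    · group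
    · rw [huC', mul_inv_cancel_right])))
  have hαinj : Function.Injective α := fun k k' h => by
    have h1 : α₀ k = α₀ k' := congrArg (fun w : ↥F.K => (((w : ↥(centralizer ({t₀} : Set ↥G₀))) : ↥G₀) : X)) h
    have h2 := congrArg Subtype.val (hinj h1)
    have h3 : pre k = pre k' := Subtype.ext (mul_left_cancel (mul_right_cancel h2))
    have h4 := congrArg φ h3
    rw [hpre, hpre] at h4
    exact Subtype.ext (Subtype.ext (Subtype.ext h4))
  obtain ⟨Aα, hAα⟩ := hbar α hαinj hαfix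
  obtain ⟨Aβ, hAβ⟩ := hbar β (MulEquiv.injective _) hβfix
  set I := (MulAut.conj : Cfsg.Spor.Fi22 →* MulAut Cfsg.Spor.Fi22).range
  have hI : I.index = 2 := by
    rw [← CfsgLib.Fi22P.Out.card_out, Subgroup.index_eq_card]
  have hout : ∀ (A : MulAut Cfsg.Spor.Fi22) (μ : ↥F.K →* ↥F.K), (∀ k, A (F.ι k) = F.ι (μ k)) → A ∈ I →
      ∃ g : ↥F.K, ∀ k, μ k = g * k * g⁻¹ := by
    rintro A μ hA ⟨x, rfl⟩
    obtain ⟨g, rfl⟩ := F.surj x
    refine ⟨g, hrigid μ (MulAut.conj g).toMonoidHom fun k => ?_⟩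
    rw [← hA]
    show F.ι g * F.ι k * (F.ι g)⁻¹ = F.ι (g * k * g⁻¹)
    rw [map_mul, map_mul, map_inv]
  have hβI : Aβ ∉ I := fun h => by
    obtain ⟨g, hg⟩ := hout Aβ β hAβ h
    have hc := F.cent ((g : ↥(centralizer ({t₀} : Set ↥G₀)))⁻¹ * uC) fun k hk => by
      have e : uC * k * uC⁻¹ = (g : ↥(centralizer ({t₀} : Set ↥G₀))) * k * (g : ↥(centralizer ({t₀} : Set ↥G₀)))⁻¹ :=
        congrArg Subtype.val (hg ⟨k, hk⟩)
      calc (g : ↥(centralizer ({t₀} : Set ↥G₀)))⁻¹ * uC * k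
          = (g : ↥(centralizer ({t₀} : Set ↥G₀)))⁻¹ * (uC * k * uC⁻¹) * uC := by group
        _ = k * ((g : ↥(centralizer ({t₀} : Set ↥G₀)))⁻¹ * uC) := by rw [e]; group
    have h2 := F.t_mem _ hc
    have h3 : uC ∈ F.K := by simpa using mul_mem g.2 h2
    exact hud (hKd uC h3)
  have hαI : Aα ∉ I := fun h => by
    obtain ⟨g, hg⟩ := hout Aα α hAα h
    obtain ⟨y, hy⟩ : (link (conjugatesOf t) t).Nonempty := (Set.ncard_pos (Set.toFinite _)).1 (by
      rw [CfsgLib.M23.link_ncard_eq S mem_conjugatesOf_self]; norm_num)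
    obtain ⟨q, hq⟩ := hmem y hy.1
    have hyC : ∀ w : ↥(G₀ ⊓ centralizer ({d} : Set X)), Commute (w : X) (t₀ : X) →
        ∃ k : ↥F.K, (((k : ↥(centralizer ({t₀} : Set ↥G₀))) : ↥G₀) : X) = w := fun w hw => by
      have hwC : (⟨(w : X), w.2.1⟩ : ↥G₀) ∈ centralizer ({t₀} : Set ↥G₀) :=
        mem_centralizer_singleton_iff.2 (Subtype.ext hw)
      exact ⟨⟨⟨_, hwC⟩, hdK _ (mem_centralizer_singleton_iff.1 w.2.2).symm⟩, rfl⟩
    have hyt : Commute (y : X) (t₀ : X) := ht ▸ (hy.2.2.map (Subgroup.subtype _)).symm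
    obtain ⟨k, hk⟩ := hyC y hyt
    have hm : φ ⟨refl24 q, refl24_subgH q⟩ = φ (⟨eltL, eltL_mem⟩ * pre k) := by
      rw [map_mul, hl, hpre, hk, hq]
    have hq' : refl24 q = eltL * (pre k : Cfsg.Spor.Fi24) := congrArg Subtype.val (hinj hm)
    have hqi : Commute (refl24 q) (ftGen 11) := hq' ▸ twelfth_link.2.2.mul_left (hpre11 k)
    have hqlink : refl24 q ∈ link transp24 eltL := link_eltL ▸ ⟨q, rfl⟩
    have hx : s₀ * refl24 q * s₀⁻¹ ∈ link transp24 eltL := by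
      refine ⟨setup24.tt.conj s₀ _ hqlink.1, fun e => ?_, ?_⟩
      · have e' : refl24 q = ftGen 11 := by
          rw [← hs1] at e
          exact mul_left_cancel (mul_right_cancel e)
        have h' := congrArg φ (Subtype.ext (e'.trans (genH_coe (by norm_num) (by norm_num)).symm) :
          (⟨refl24 q, refl24_subgH q⟩ : ↥Fi24P.subgH) = genH 11)
        rw [hq, h11, mul_right_inj] at h'
        exact hy.2.1 (Subtype.ext h')
      · have h' := (Commute.conj_iff s₀).2 hqi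
        rw [hs1] at h'
        exact h'.symm
    rw [link_eltL] at hx
    obtain ⟨q', hq''⟩ := hx
    have hαk : α₀ k = (((g : ↥(centralizer ({t₀} : Set ↥G₀))) : ↥G₀) : X) * (y : X) *
        (((g : ↥(centralizer ({t₀} : Set ↥G₀))) : ↥G₀) : X)⁻¹ := by
      rw [← hαX, hg k]
      simp only [Subgroup.coe_mul, InvMemClass.coe_inv, hk]
    -- the member image as `d t` times the conjugate of `y`
    have e1 : φ ⟨refl24 q', refl24_subgH q'⟩ = d * (t₀ : X) * α₀ k := by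
      rw [← h11']
      show _ = φ (genH 11) * φ _
      rw [← map_mul]
      refine congrArg φ (Subtype.ext ?_)
      show refl24 q' = (genH 11 : Cfsg.Spor.Fi24) * (s₀ * (pre k : Cfsg.Spor.Fi24) * s₀⁻¹)
      rw [hq'', hq', genH_coe (by norm_num) (by norm_num)]
      calc s₀ * (eltL * (pre k : Cfsg.Spor.Fi24)) * s₀⁻¹
          = (s₀ * eltL * s₀⁻¹) * (s₀ * (pre k : Cfsg.Spor.Fi24) * s₀⁻¹) := by group
        _ = _ := by rw [hs0]
    set gY : ↥(G₀ ⊓ centralizer ({d} : Set X)) := ⟨_, ((g : ↥(centralizer ({t₀} : Set ↥G₀))) : ↥G₀).2,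
      mem_centralizer_singleton_iff.2 (hKd _ g.2).symm⟩
    have hgt : Commute (gY : X) (t₀ : X) :=
      congrArg (Subtype.val : ↥G₀ → X) (mem_centralizer_singleton_iff.1 (g : ↥(centralizer ({t₀} : Set ↥G₀))).2)
    set y'' := gY * y * gY⁻¹ with hy''
    have hy''D : y'' ∈ conjugatesOf t := S.tt.conj gY y hy.1
    have hlink : y'' ∈ link (conjugatesOf t) t := by
      have h1 : gY * t * gY⁻¹ = t := Subtype.ext (by
        show (gY : X) * (t : X) * (gY : X)⁻¹ = t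
        rw [ht, hgt.eq, mul_inv_cancel_right])
      refine ⟨hy''D, fun e => hy.2.1 ?_, ?_⟩
      · rw [hy'', ← h1] at e
        exact mul_left_cancel (mul_right_cancel e)
      · have h2 := (Commute.conj_iff gY).2 hy.2.2
        rw [h1] at h2
        exact h2
    -- the parities force the image to lie outside
    obtain ⟨q₂, hq₂⟩ := hmem y'' hy''D
    have e2 : φ ⟨refl24 q', refl24_subgH q'⟩ = φ ⟨refl24 q₂, refl24_subgH q₂⟩ * (t₀ : X) := by
      rw [e1, hq₂, hαk, mul_assoc d, mul_assoc d]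
      congr 1
      rw [show (((g : ↥(centralizer ({t₀} : Set ↥G₀))) : ↥G₀) : X) = (gY : X) from rfl,
        show (gY : X) * (y : X) * (gY : X)⁻¹ = (y'' : X) from rfl, ← ht]
      exact congrArg Subtype.val hlink.2.2.eq
    have e3 : refl24 q' = refl24 q₂ * eltL * ftGen 11 := by
      have h3 : (⟨refl24 q', refl24_subgH q'⟩ : ↥Fi24P.subgH) =
          ⟨refl24 q₂, refl24_subgH q₂⟩ * (⟨eltL, eltL_mem⟩ * genH 11) := hinj (by rw [e2, map_mul, hφt])
      have := congrArg Subtype.val h3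
      simpa only [Subgroup.coe_mul, genH_coe (show (11 : ℕ) < 12 by norm_num) (by norm_num), ← mul_assoc] using this
    have hq₂link : refl24 q₂ ∈ link transp24 eltL := link_eltL ▸ ⟨q₂, rfl⟩
    have hq₂i : refl24 q₂ ∈ link transp24 (ftGen 11) := by
      refine ⟨hq₂link.1, fun e => ?_, ?_⟩
      · have h' := congrArg φ (Subtype.ext (e.trans (genH_coe (by norm_num) (by norm_num)).symm) :
          (⟨refl24 q₂, refl24_subgH q₂⟩ : ↥Fi24P.subgH) = genH 11)
        rw [hq₂, h11, mul_right_inj] at h'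
        exact hlink.2.1 (Subtype.ext h')
      · refine ((hcomm11 ⟨refl24 q₂, refl24_subgH q₂⟩).2 ?_).symm
        have h1 : (t₀ : X) * (y'' : X) = (y'' : X) * (t₀ : X) := ht ▸ congrArg Subtype.val hlink.2.2.eq
        rw [hq₂, mul_assoc, ← h1, ← mul_assoc, hdt, mul_assoc]
    exact (CfsgLib.M24.tri_notMem setup24 (a := refl24 q₂) (b := eltL) (c := ftGen 11)
      ⟨hq₂link.1, hel, twelfth_link.1, hq₂link.2.1, hq₂i.2.1, twelfth_link.2.1.symm, hq₂link.2.2.symm,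
        hq₂i.2.2.symm, twelfth_link.2.2⟩).2 (e3 ▸ refl24_mem q')
  haveI := CfsgLib.Fi22P.card_fi.1
  let αE : ↥F.K ≃* ↥F.K := MulEquiv.ofBijective α (Finite.injective_iff_bijective.1 hαinj)
  obtain ⟨g, hg⟩ := hout (Aα⁻¹ * Aβ) (αE.symm.toMonoidHom.comp β) (fun k => by
      rw [MulAut.mul_apply, hAβ]
      refine Aα.injective ?_
      rw [MulAut.apply_inv_self, hAα]
      exact congrArg F.ι (αE.apply_symm_apply (β k)).symm)
    ((Subgroup.mul_mem_iff_of_index_two hI).2 (iff_of_false (fun h => hαI (by simpa using I.inv_mem h)) hβI))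
  have hβα : ∀ k, β k = α (g * k * g⁻¹) := fun k => by
    rw [← hg k]
    exact (αE.apply_symm_apply (β k)).symm
  set s' := s₀ * (pre g : Cfsg.Spor.Fi24) with hs'
  have hgl : (pre g : Cfsg.Spor.Fi24) * eltL * (pre g : Cfsg.Spor.Fi24)⁻¹ = eltL := by
    rw [(hpl (pre g)).eq, mul_inv_cancel_right]
  have hgi : (pre g : Cfsg.Spor.Fi24) * ftGen 11 * (pre g : Cfsg.Spor.Fi24)⁻¹ = ftGen 11 := by
    rw [(hpre11 g).eq, mul_inv_cancel_right]
  have hs'l : s' * eltL * s'⁻¹ = ftGen 11 := by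
    calc s' * eltL * s'⁻¹ = s₀ * ((pre g : Cfsg.Spor.Fi24) * eltL * (pre g : Cfsg.Spor.Fi24)⁻¹) * s₀⁻¹ := by
          rw [hs']; group
      _ = ftGen 11 := by rw [hgl, hs0]
  have hs'i : s' * ftGen 11 * s'⁻¹ = eltL := by
    calc s' * ftGen 11 * s'⁻¹ = s₀ * ((pre g : Cfsg.Spor.Fi24) * ftGen 11 * (pre g : Cfsg.Spor.Fi24)⁻¹) * s₀⁻¹ := by
          rw [hs']; group
      _ = eltL := by rw [hgi, hs1]
  have hK : ∀ (k : ↥F.K) (h' : s' * (pre k : Cfsg.Spor.Fi24) * s'⁻¹ ∈ Fi24P.subgH), φ ⟨_, h'⟩ =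
      (u : X) * φ (pre k) * (u : X)⁻¹ := fun k h' => by
    rw [hpre k, ← hβX, hβα, hαX]
    refine congrArg φ (Subtype.ext ?_)
    have e : pre (g * k * g⁻¹) = pre g * pre k * (pre g)⁻¹ :=
      hinj (by rw [map_mul, map_mul, map_inv, hpre, hpre, hpre]; rfl)
    show s' * (pre k : Cfsg.Spor.Fi24) * s'⁻¹ = s₀ * (pre (g * k * g⁻¹) : Cfsg.Spor.Fi24) * s₀⁻¹
    rw [e, Subgroup.coe_mul, Subgroup.coe_mul, Subgroup.coe_inv, hs']
    group
  have hK' : ∀ (m : ↥Fi24P.subgH) (k : ↥F.K), m = pre k → ∀ h' : s' * (m : Cfsg.Spor.Fi24) * s'⁻¹ ∈ Fi24P.subgH,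
      φ ⟨_, h'⟩ = (u : X) * φ m * (u : X)⁻¹ := by
    rintro _ k rfl
    exact hK k
  refine ⟨{
    idx := hidx
    d := d
    φ := φ
    inj := hinj
    range_eq := hrange
    map_l := hl
    parity := hpar
    swap := hswap
    quad := ?_
    t := t
    setup := S
    eleven := h11
    members := hmem
    tri := ⟨a, b, c, T, g₀, hg₀, hz⟩
    not_z := ?_
    s := u
    s_mem := u.2
    s' := s'
    s'_l := hs'l
    s'_i := hs'i
    compat := ?_ }⟩
  · obtain ⟨qa, ha⟩ := hmem a T.ha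
    obtain ⟨qb, hb⟩ := hmem b T.hb
    obtain ⟨qc, hc⟩ := hmem c T.hc
    set A : ↥Fi24P.subgH := ⟨refl24 qa, refl24_subgH qa⟩
    set B : ↥Fi24P.subgH := ⟨refl24 qb, refl24_subgH qb⟩
    set C : ↥Fi24P.subgH := ⟨refl24 qc, refl24_subgH qc⟩
    have hcm : ∀ {P R : ↥Fi24P.subgH} {x y : ↥(G₀ ⊓ centralizer ({d} : Set X))}, φ P = d * (x : X) →
        φ R = d * (y : X) → Commute x y → Commute (P : Cfsg.Spor.Fi24) (R : Cfsg.Spor.Fi24) := by
      intro P R x y hP hR h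
      have hx : Commute (x : X) d := mem_centralizer_singleton_iff.1 x.2.2
      have hy : Commute (y : X) d := mem_centralizer_singleton_iff.1 y.2.2
      have h' : Commute (d * (x : X)) (d * (y : X)) :=
        ((Commute.refl d).mul_right hy.symm).mul_left (hx.mul_right (h.map (Subgroup.subtype _)))
      exact congrArg Subtype.val (hinj (by rw [map_mul, map_mul, hP, hR, h'.eq]) : P * R = R * P)
    have hnm : ∀ {p r : Fin Fi23P.tab.n} {x y : ↥(G₀ ⊓ centralizer ({d} : Set X))},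
        φ ⟨refl24 p, refl24_subgH p⟩ = d * (x : X) → φ ⟨refl24 r, refl24_subgH r⟩ = d * (y : X) → x ≠ y →
        refl24 p ≠ refl24 r := fun hP hR h e => h (Subtype.ext (mul_left_cancel
          (hP.symm.trans ((congrArg φ (Subtype.ext e)).trans hR))))
    refine ⟨refl24 qa, refl24 qb, refl24 qc, (A * B * C * ⟨eltL, eltL_mem⟩).2, link_eltL ▸ ⟨qa, rfl⟩,
      link_eltL ▸ ⟨qb, rfl⟩, link_eltL ▸ ⟨qc, rfl⟩, hnm ha hb T.ab, hnm ha hc T.ac, hnm hb hc T.bc,
      hcm ha hb T.cab, hcm ha hc T.cac, hcm hb hc T.cbc, g₀, hg₀, ?_⟩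
    show g₀ * φ (A * B * C * ⟨eltL, eltL_mem⟩) * g₀⁻¹ = _
    rw [← hz, map_mul, map_mul, map_mul, hl, ha, hb, hc, Subgroup.coe_mul, Subgroup.coe_mul]
    congr 2
    have hax : (a : X) * d = d * (a : X) := mem_centralizer_singleton_iff.1 a.2.2
    have hbx : (b : X) * d = d * (b : X) := mem_centralizer_singleton_iff.1 b.2.2
    have hcx : (c : X) * d = d * (c : X) := mem_centralizer_singleton_iff.1 c.2.2
    calc d * (a : X) * (d * (b : X)) * (d * (c : X)) * d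
        = d * ((a : X) * d) * (b : X) * (d * ((c : X) * d)) := by group
      _ = d * d * (a : X) * (b : X) * (d * d * (c : X)) := by rw [hax, hcx]; group
      _ = (a : X) * (b : X) * (c : X) := by rw [hd, one_mul, one_mul]
  · intro g' hg' e
    refine hzt (isConj_iff.2 ⟨(⟨g', hg'⟩ : ↥G₀), Subtype.ext ?_⟩).symm
    rw [ht] at e
    exact e
  · intro m hm h'
    have hφm : φ m * (t₀ : X) = (t₀ : X) * φ m := (hcomm11 m).1 hm
    by_cases hmG : φ m ∈ G₀
    · have hmC : (⟨φ m, hmG⟩ : ↥G₀) ∈ centralizer ({t₀} : Set ↥G₀) :=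
        mem_centralizer_singleton_iff.2 (Subtype.ext hφm)
      exact hK' m _ (hinj (by rw [hpre]) : m = pre ⟨⟨_, hmC⟩, hdK _ (hφC m).symm⟩) h'
    · set m₁ := m * ⟨eltL, eltL_mem⟩
      have e1 : φ m₁ = φ m * d := by rw [map_mul, hl]
      have hm₁G : φ m₁ ∈ G₀ := e1 ▸ (Subgroup.mul_mem_iff_of_index_two hidx).2 (iff_of_false hmG hdG)
      have hm₁C : (⟨φ m₁, hm₁G⟩ : ↥G₀) ∈ centralizer ({t₀} : Set ↥G₀) :=
        mem_centralizer_singleton_iff.2 (Subtype.ext (by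
          show φ m₁ * (t₀ : X) = (t₀ : X) * φ m₁
          rw [e1, mul_assoc, hdt, ← mul_assoc, hφm, mul_assoc]))
      have hm₁ := (hinj (by rw [hpre]) : m₁ = pre ⟨⟨_, hm₁C⟩, hdK _ (hφC m₁).symm⟩)
      have hmem₁ : s' * (m₁ : Cfsg.Spor.Fi24) * s'⁻¹ ∈ Fi24P.subgH :=
        (swap_mem hs'l hs'i (hpl m₁) ((hm₁ ▸ hpre11 _ : Commute (m₁ : Cfsg.Spor.Fi24) (ftGen 11)))).1
      have h2 : φ ⟨_, hmem₁⟩ = (u : X) * φ m₁ * (u : X)⁻¹ := hK' m₁ _ hm₁ hmem₁
      have e2 : (⟨_, hmem₁⟩ : ↥Fi24P.subgH) = ⟨_, h'⟩ * genH 11 := Subtype.ext (by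
        show s' * ((m : Cfsg.Spor.Fi24) * eltL) * s'⁻¹ = s' * m * s'⁻¹ * (genH 11 : Cfsg.Spor.Fi24)
        rw [genH_coe (by norm_num) (by norm_num), ← hs'l]
        group)
      rw [e2, map_mul, h11', e1, ← hud'] at h2
      calc φ ⟨_, h'⟩ = φ ⟨_, h'⟩ * ((u : X) * d * (u : X)⁻¹) * ((u : X) * d * (u : X)⁻¹)⁻¹ := by group
        _ = _ := by rw [h2]; group

end

end CfsgLib.LargeFischer.Ext
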