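import Cfsg.Agent.Lib.LargeFischer.Ext.Node

/-!
# The element of the trace fixes the image of the second generator
-/

set_option autoImplicit false
set_option maxRecDepth 100000
set_option maxHeartbeats 1000000
set_option linter.style.haveILetI false
set_option linter.unusedSectionVars false

namespace CfsgLib.LargeFischer.Ext

open CfsgLib.PresCert CfsgLib.Fi24P CfsgLib.Fi24P.ThreeT Subgroup
open CfsgLib.ThreeTransp (link)

attribute [local irreducible] relShort Fi23P.relShort Fi23P.levels Fi23P.wordA Fi23P.baseL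

/-- Points separating the generators. -/
def sepWords : List (List ℕ) :=
  [[], [1], [1, 2], [1, 2, 3], [1, 2, 3, 4], [1, 2, 3, 4, 5], [1, 2, 3, 4, 5, 6], [1, 2, 3, 4, 5, 6, 7],
    [1, 2, 3, 4, 5, 6, 7, 8], [1, 2, 3, 4, 5, 10]]

theorem sep_ok : ((List.range 12).all fun g => (List.range 12).all fun h => Nat.beq g h ||
    sepWords.any fun v => !(Nat.beq (tab.walk 0 (v ++ [g])) (tab.walk 0 (v ++ [h])))) = true := by
  decide +kernel

theorem gen_ne {g h : ℕ} (hg : g < 12) (hh : h < 12) (hne : g ≠ h) : ftGen g ≠ ftGen h := by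
  intro e
  have h' := List.all_eq_true.1 (List.all_eq_true.1 sep_ok g (List.mem_range.2 hg)) h (List.mem_range.2 hh)
  simp only [Bool.or_eq_true, List.any_eq_true, Bool.not_eq_true'] at h'
  rcases h' with h' | ⟨v, hv, h'⟩
  · exact hne (Nat.beq_eq.mp h')
  have hlt : ∀ a ∈ v, a < 12 := by
    have : sepWords.all (fun v => v.all fun a => Nat.blt a 12) = true := by decide +kernel
    exact fun a ha => Nat.blt_eq.mp (List.all_eq_true.1 (List.all_eq_true.1 this v hv) a ha)
  have e' : act ftGen (v ++ [g]) = act ftGen (v ++ [h]) := by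
    simp only [act_append, act_cons, act_nil, one_mul, e]
  have e'' := congrArg (fun m => ((phi m pt0 : Fin tab.n) : ℕ)) e'
  simp only [phi_pt (w := v ++ [g]) (fun a ha => (List.mem_append.1 ha).elim (hlt a) fun h => List.mem_singleton.1 h ▸ hg),
    phi_pt (w := v ++ [h]) (fun a ha => (List.mem_append.1 ha).elim (hlt a) fun h' => List.mem_singleton.1 h' ▸ hh)] at e''
  rw [Nat.beq_eq.mpr e''] at h'
  exact Bool.noConfusion h'

theorem gen_link {g : ℕ} (h2 : 1 < g) (hg : g < 12) : ∃ p, refl24 p = ftGen g := by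
  have hl : ftGen g ∈ link transp24 eltL :=
    ⟨gen_mem hg, gen_ne (h := 0) hg (by norm_num) (by omega), eltL_comm hg (by omega)⟩
  rw [link_eltL] at hl
  exact hl

variable {X : Type*} [Group X] {G₀ : Subgroup X} {z : ↥G₀}

namespace Setting

variable [Finite X] (L : Setting G₀ z)

theorem node_V {g : ℕ} (h2 : 2 < g) (hg : g < 12) : Commute (L.φ (genH g)) L.V := by
  by_cases h : g = 10
  · exact h ▸ L.V_comm_ten
  · have e : (genH g : Cfsg.Spor.Fi24) = ftGen g := genH_coe hg (by omega)
    refine L.V_comm ?_ (node_comm h2 hg)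
    rw [e]
    by_cases h' : g = 11
    · exact h' ▸ Commute.refl _
    · exact gen_comm (g := g) (h := 11) (by interval_cases g <;> first | decide | omega)

theorem nodes_V {m : ↥Fi24P.subgH} (hm : m ∈ closure nodes) : Commute (L.φ m) L.V := by
  induction hm using Subgroup.closure_induction with
  | mem x hx => obtain ⟨g, ⟨h1, h2⟩, rfl⟩ := hx; exact L.node_V h1 h2
  | one => rw [map_one]; exact Commute.one_left _
  | mul a b _ _ ha hb => rw [map_mul]; exact ha.mul_left hb
  | inv a _ ha => rw [map_inv]; exact ha.inv_left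

theorem gen_image {g : ℕ} (h2 : 2 < g) (hg : g < 12) : ∃ p, refl24 p = ftGen g ∧
    L.φ ⟨refl24 p, refl24_subgH p⟩ = L.φ (genH g) := by
  obtain ⟨p, hp⟩ := gen_link (show 1 < g by omega) hg
  exact ⟨p, hp, congrArg L.φ (Subtype.ext (hp.trans (genH_coe hg (by omega)).symm))⟩

theorem tri_V : Commute (L.φ tri24) L.V := by
  set T := L.φ tri24 with hT
  set V' := T * L.V * T⁻¹ with hV'
  have hV'c : IsConj L.d V' := L.V_conj.trans (isConj_iff.2 ⟨T, rfl⟩)
  have hTd : T * L.d * T⁻¹ = L.d := by rw [hT, L.phi_comm, mul_inv_cancel_right]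
  have pairs : ∀ g h : ℕ, 2 < g → g < 12 → 2 < h → h < 12 → g ≠ h → ((g, h) ∈ commList ∨ (h, g) ∈ commList) →
      Commute V' (L.φ (genH g)) := by
    intro g h g2 g12 h2 h12 hne hm
    have hc : Commute (L.φ (tri24⁻¹ * (genH g * genH h) * tri24)) L.V := L.nodes_V (tri24_two g2 g12 h2 h12)
    have hc' := (Commute.conj_iff T).2 hc.symm
    rw [show T * L.φ (tri24⁻¹ * (genH g * genH h) * tri24) * T⁻¹ = L.φ (genH g) * L.φ (genH h) by
      rw [map_mul, map_mul, map_mul, map_inv, ← hT]; group] at hc'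
    obtain ⟨p, hp, ep⟩ := L.gen_image g2 g12
    obtain ⟨q, hq, eq'⟩ := L.gen_image h2 h12
    have hgh : Commute (ftGen g) (ftGen h) := by
      rcases hm with hm | hm
      exacts [gen_comm hm, (gen_comm hm).symm]
    have hne' : refl24 p ≠ refl24 q := by rw [hp, hq]; exact gen_ne g12 h12 hne
    rw [← ep, ← eq'] at hc'
    exact ep ▸ (L.fix_pair hV'c hne' (hp ▸ hq ▸ hgh) hc').1
  have hnode : ∀ g, 2 < g → g < 12 → Commute V' (L.φ (genH g)) := fun g h2 h12 => by
    by_cases h3 : g = 3
    · exact h3 ▸ pairs 3 5 (by norm_num) (by norm_num) (by norm_num) (by norm_num) (by norm_num) (by decide)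
    by_cases h4 : g = 4
    · exact h4 ▸ pairs 4 6 (by norm_num) (by norm_num) (by norm_num) (by norm_num) (by norm_num) (by decide)
    exact pairs g 3 h2 h12 (by norm_num) (by norm_num) h3 (.inr (by interval_cases g <;> first | decide | omega))
  have hall : ∀ m : ↥Fi24P.subgH, m ∈ closure nodes → Commute (L.φ m) V' := fun m hm => by
    induction hm using Subgroup.closure_induction with
    | mem x hx => obtain ⟨g, ⟨h1, h2⟩, rfl⟩ := hx; exact (hnode g h1 h2).symm
    | one => rw [map_one]; exact Commute.one_left _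
    | mul a b _ _ ha hb => rw [map_mul]; exact ha.mul_left hb
    | inv a _ ha => rw [map_inv]; exact ha.inv_left
  have hconj : ∀ a b c : X, T * (a * b * c) * T⁻¹ = T * a * T⁻¹ * (T * b * T⁻¹) * (T * c * T⁻¹) :=
    fun a b c => by group
  have hbr : L.d * V' * L.d = V' * L.d * V' := by
    have h := congrArg (fun x => T * x * T⁻¹) L.braid_d
    simp only [hconj, hTd, ← hV'] at h
    exact h
  have hsq : V' * V' = 1 := by
    calc V' * V' = T * (L.V * L.V) * T⁻¹ := by rw [hV']; group
      _ = 1 := by rw [L.V_sq, mul_one, mul_inv_cancel]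
  have hncV : ¬ Commute L.d V' := fun h => L.V_nc (by
    have h' := (Commute.conj_iff T⁻¹).2 h
    rwa [show T⁻¹ * L.d * T⁻¹⁻¹ = L.d by
        rw [inv_inv]; calc T⁻¹ * L.d * T = T⁻¹ * (T * L.d * T⁻¹) * T := by rw [hTd]
          _ = L.d := by group,
      show T⁻¹ * V' * T⁻¹⁻¹ = L.V by rw [hV']; group] at h')
  rcases L.cases_V hncV hbr hsq (hnode 11 (by norm_num) (by norm_num)) (hnode 7 (by norm_num) (by norm_num))
      (fun m h1 h11 _ => hall m (commute_nodes h1 h11)) with h | h
  · exact mul_inv_eq_iff_eq_mul.1 h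
  exfalso
  -- the twisting element would exchange the two candidates
  set c := L.φ (genH 3) * T with hc
  have h3V : L.φ (genH 3) * L.V * (L.φ (genH 3))⁻¹ = L.V := by
    rw [(L.node_V (g := 3) (by norm_num) (by norm_num)).eq, mul_inv_cancel_right]
  have h3d : L.φ (genH 3) * L.d * (L.φ (genH 3))⁻¹ = L.d := by rw [L.phi_comm, mul_inv_cancel_right]
  have hcd : c * L.d * c⁻¹ = L.d := by
    calc c * L.d * c⁻¹ = L.φ (genH 3) * (T * L.d * T⁻¹) * (L.φ (genH 3))⁻¹ := by rw [hc]; group
      _ = L.d := by rw [hTd, h3d]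
  have hcV : c * L.V * c⁻¹ = L.d * L.V * L.d := by
    calc c * L.V * c⁻¹ = L.φ (genH 3) * (T * L.V * T⁻¹) * (L.φ (genH 3))⁻¹ := by rw [hc]; group
      _ = L.φ (genH 3) * (L.d * L.V * L.d) * (L.φ (genH 3))⁻¹ := by rw [← hV', h]
      _ = L.φ (genH 3) * L.d * (L.φ (genH 3))⁻¹ * (L.φ (genH 3) * L.V * (L.φ (genH 3))⁻¹) *
          (L.φ (genH 3) * L.d * (L.φ (genH 3))⁻¹) := by group
      _ = _ := by rw [h3V, h3d]
  have hmem : ((genH 3 * tri24) ^ 3 : ↥Fi24P.subgH) ∈ closure nodes := by
    obtain ⟨w1, w2⟩ := tri_wit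
    have e := CfsgLib.Fi24P.eq_of_sameElt w1
    rw [Fi23P.act_flatten, act_append, act_cons, act_nil, one_mul] at e
    have hk : ∀ w : List ℕ, (∀ g ∈ w, 2 < g ∧ g < 12) →
        ∃ m ∈ closure nodes, (m : Cfsg.Spor.Fi24) = act ftGen w := by
      intro w hw
      induction w with
      | nil => exact ⟨1, one_mem _, by rw [act_nil]; rfl⟩
      | cons g w ih =>
        obtain ⟨m, hm, e'⟩ := ih fun a ha => hw a (List.mem_cons_of_mem _ ha)
        obtain ⟨g1, g2⟩ := hw g List.mem_cons_self
        exact ⟨m * genH g, mul_mem hm (subset_closure ⟨g, ⟨g1, g2⟩, rfl⟩), by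
          rw [Subgroup.coe_mul, e', genH_coe g2 (by omega), act_cons]⟩
    obtain ⟨m, hm, e'⟩ := hk _ (kLetters_spec w2)
    convert hm using 1
    refine Subtype.ext ?_
    rw [Subgroup.coe_pow, Subgroup.coe_mul, genH_coe (by norm_num) (by norm_num), e', ← e]
    rfl
  have h3 := L.nodes_V hmem
  rw [map_pow, map_mul, ← hT, ← hc] at h3
  have e3 : c ^ 3 * L.V * (c ^ 3)⁻¹ = L.d * L.V * L.d := by
    have hc2 : c * (L.d * L.V * L.d) * c⁻¹ = L.V := by
      calc c * (L.d * L.V * L.d) * c⁻¹ = c * L.d * c⁻¹ * (c * L.V * c⁻¹) * (c * L.d * c⁻¹) := by group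
        _ = L.d * L.d * L.V * (L.d * L.d) := by rw [hcd, hcV]; group
        _ = L.V := by rw [L.d_sq, one_mul, mul_one]
    calc c ^ 3 * L.V * (c ^ 3)⁻¹ = c * (c * (c * L.V * c⁻¹) * c⁻¹) * c⁻¹ := by
          rw [pow_succ, pow_two]; group
      _ = _ := by rw [hcV, hc2, hcV]
  rw [h3.eq, mul_inv_cancel_right] at e3
  exact L.V_ne e3

end Setting

/-- The image of the second generator exists. -/
theorem Setting.exists_node [Finite X] (L : Setting G₀ z) : ∃ V, L.toModel.Node V := by
  refine ⟨L.V, ⟨L.V_sq, fun g h2 hg => (L.node_V h2 hg).eq, L.braid_d, L.braid_a, ?_⟩⟩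
  have key : ∀ w : List ℕ, ∀ h : hLetters w = true,
      act (L.toModel.gens L.V) w = L.φ ⟨act ftGen w, hLetters_mem h⟩ := by
    intro w
    induction w with
    | nil => intro h; rw [act_nil, ← map_one L.φ]; exact congrArg L.φ (Subtype.ext (by simp [act_nil]))
    | cons g w ih =>
      intro h
      obtain ⟨hg, hg1⟩ := hLetters_spec h g List.mem_cons_self
      have hw : hLetters w = true := by
        simp only [hLetters, List.all_cons, Bool.and_eq_true] at h ⊢
        exact h.2
      rw [act_cons, ih hw, Model.gens, if_neg hg1, ← map_mul]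
      refine congrArg L.φ (Subtype.ext ?_)
      simp only [Subgroup.coe_mul, genH_coe hg hg1, act_cons]
  rw [key wordTri tri_moves.2.2.2.2.2]
  exact L.tri_V.eq

end CfsgLib.LargeFischer.Ext
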